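import Cfsg.Agent.Lib.Chev.F42Mult.Series
import Cfsg.Agent.Lib.KnownA.Suzuki.Basic

/-!
The four dimensional representation of the Levi subgroup of type twisted B2.
-/

set_option autoImplicit false
set_option maxRecDepth 100000

namespace CfsgLib.Chev.F42Mult

open Cfsg.Lie Matrix CfsgLib.Chev
open CfsgLib.Chev.F42Aut (tc hT pW pY n1 n1_eq)
open CfsgLib.KnownA.Suzuki (uMat hMat wMat)

variable {K : Type*} [Field K]

local notation "g₄" => stdF4.good

/-- the four roots -/
def cl : Fin 4 → ℕ := ![33, 34, 35, 37]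

theorem cl_lt : ∀ i, cl i < chevF4.nroots := by decide +kernel

/-- their basis vectors -/
def ci (i : Fin 4) : chevF4.Idx := Sum.inr ⟨cl i, cl_lt i⟩

theorem ci_inj : Function.Injective ci := fun i j h => by
  have h1 := congrArg Fin.val (Sum.inr.inj h)
  revert h1
  revert i j
  decide

/-- matrices preserving the span -/
def Blk (g : GL chevF4.Idx K) : Prop :=
  ∀ i x, (∀ j, x ≠ ci j) → (g : Matrix chevF4.Idx chevF4.Idx K) x (ci i) = 0

/-- the block -/
def bl (g : GL chevF4.Idx K) : Matrix (Fin 4) (Fin 4) K :=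
  Matrix.of fun i j => (g : Matrix chevF4.Idx chevF4.Idx K) (ci i) (ci j)

theorem bl_mul {g h : GL chevF4.Idx K} (hh : Blk h) : bl (g * h) = bl g * bl h := by
  ext i j
  simp only [bl, Matrix.of_apply, Matrix.mul_apply, Units.val_mul]
  exact (Fintype.sum_of_injective ci ci_inj _ _ (fun x hx => by
    rw [hh j x fun k e => hx ⟨k, e.symm⟩, mul_zero]) fun k => rfl).symm

theorem Blk.mul {g h : GL chevF4.Idx K} (hg : Blk g) (hh : Blk h) : Blk (g * h) := by
  intro i x hx
  rw [Units.val_mul, Matrix.mul_apply]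
  refine Finset.sum_eq_zero fun y _ => ?_
  by_cases hy : ∃ k, y = ci k
  · obtain ⟨k, rfl⟩ := hy
    rw [hg k x hx, zero_mul]
  · rw [hh i y fun k e => hy ⟨k, e⟩, mul_zero]

theorem Blk.one : Blk (1 : GL chevF4.Idx K) := fun i x hx => by
  rw [Units.val_one, Matrix.one_apply_ne (hx i)]

theorem bl_one : bl (1 : GL chevF4.Idx K) = 1 := by
  ext i j
  simp [bl, Matrix.one_apply, ci_inj.eq_iff]

/-- the stabiliser of the span -/
def stab : Subgroup (GL chevF4.Idx K) where
  carrier := {g | Blk g ∧ Blk g⁻¹}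
  mul_mem' ha hb := ⟨ha.1.mul hb.1, by rw [_root_.mul_inv_rev]; exact hb.2.mul ha.2⟩
  one_mem' := ⟨Blk.one, by rw [inv_one]; exact Blk.one⟩
  inv_mem' ha := ⟨ha.2, by rw [inv_inv]; exact ha.1⟩

/-- the representation -/
noncomputable def rep : ↥(stab : Subgroup (GL chevF4.Idx K)) →* GL (Fin 4) K :=
  MonoidHom.toHomUnits
    { toFun := fun g => bl (g : GL chevF4.Idx K)
      map_one' := bl_one
      map_mul' := fun _ h => bl_mul h.2.1 }

theorem rep_val (g : ↥(stab : Subgroup (GL chevF4.Idx K))) :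
    ((rep g : GL (Fin 4) K) : Matrix (Fin 4) (Fin 4) K) = bl (g : GL chevF4.Idx K) :=
  MonoidHom.coe_toHomUnits _ g

/-- the roots of the Levi subgroup -/
def levR : List ℕ := [27, 25, 28, 30, 19, 17]

/-- the nonzero entries -/
def pat (r : ℕ) : List (Fin 4 × Fin 4) :=
  if r = 27 then [(1, 0), (3, 2)] else if r = 25 then [(2, 1)] else if r = 28 then [(2, 0), (3, 1)]
  else if r = 30 then [(3, 0)] else if r = 19 then [(0, 2), (1, 3)] else [(0, 3)]

theorem lev_data : ∀ r ∈ levR, r < chevF4.nroots ∧ ∀ j : Fin 4,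
    cl j ≠ r ∧ cl j ≠ chevF4.negIdx.getD r 0 ∧
    (∀ i : Fin 4, ((chevF4.chainCoeff r (cl j) (cl i)).filter fun c => c.2 % 2 != 0).map Prod.fst =
      if (i, j) ∈ pat r then [1] else []) ∧
    ∀ u < 48, (∀ i : Fin 4, u ≠ cl i) →
      ((chevF4.chainCoeff r (cl j) u).filter fun c => c.2 % 2 != 0).map Prod.fst = [] := by
  decide +kernel

variable [CharP K 2]

theorem sum_odd (t : K) (L : List (ℕ × ℤ)) :
    (L.map fun km => ((km.2 : ℤ) : K) * t ^ km.1).sum =
      (((L.filter fun c => c.2 % 2 != 0).map Prod.fst).map fun k => t ^ k).sum := by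
  induction L with
  | nil => rfl
  | cons c L ih =>
    by_cases hc : (c.2 % 2 != 0) = true
    · rw [List.filter_cons, if_pos hc, List.map_cons, List.sum_cons, List.map_cons, List.map_cons,
        List.sum_cons, ih, F42Invol.cast_odd hc, one_mul]
    · rw [List.filter_cons, if_neg hc, List.map_cons, List.sum_cons, ih, F42Invol.cast_even hc, zero_mul,
        zero_add]

theorem xG_col {r : ℕ} (hr : r ∈ levR) (t : K) (j : Fin 4) (x : chevF4.Idx) :
    (xG g₄ r t : Matrix chevF4.Idx chevF4.Idx K) x (ci j) = Sum.elim (fun _ => 0) (fun u =>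
      (if u.val = cl j then 1 else 0) +
        (((chevF4.chainCoeff r (cl j) u.val).filter fun c => c.2 % 2 != 0).map Prod.fst |>.map
          fun k => t ^ k).sum) x := by
  obtain ⟨hlt, hd⟩ := lev_data r hr
  obtain ⟨h1, h2, -⟩ := hd j
  rw [xG_val, ChevalleyDatum.x, dif_pos hlt, ChevalleyDatum.xMat]
  rw [Matrix.of_apply, ci]
  simp only [Fin.ext_iff, h1, h2, if_false]
  rcases x with i | u
  · rfl
  · simp only [Sum.elim_inr, sum_odd]

theorem xG_blk {r : ℕ} (hr : r ∈ levR) (t : K) : Blk (xG g₄ r t) := by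
  intro j x hx
  rw [xG_col hr]
  rcases x with i | u
  · rfl
  · have hne : ∀ i : Fin 4, u.val ≠ cl i := fun i e => hx i (congrArg Sum.inr (Fin.ext e))
    simp only [Sum.elim_inr, ((lev_data r hr).2 j).2.2.2 u.val u.isLt hne, List.map_nil, List.sum_nil,
      add_zero, if_neg (hne j)]

theorem xG_stab {r : ℕ} (hr : r ∈ levR) (t : K) : xG g₄ r t ∈ (stab : Subgroup (GL chevF4.Idx K)) :=
  ⟨xG_blk hr t, by rw [xG_inv]; exact xG_blk hr _⟩

theorem bl_xG {r : ℕ} (hr : r ∈ levR) (t : K) :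
    bl (xG g₄ r t) = Matrix.of fun i j => (if i = j then 1 else 0) + if (i, j) ∈ pat r then t else 0 := by
  ext i j
  simp only [bl, Matrix.of_apply]
  rw [xG_col hr, ci, Sum.elim_inr]
  simp only [((lev_data r hr).2 j).2.2.1 i]
  congr 1
  · have : (cl i = cl j) ↔ i = j := ⟨fun e => ci_inj (congrArg Sum.inr (Fin.ext e)), fun e => e ▸ rfl⟩
    simp [this]
  · split_ifs <;> simp

omit [CharP K 2] in
theorem tor_stab (c : Fin chevF4.rank → Kˣ) :
    (tor chevF4 auxF4 c : GL chevF4.Idx K) ∈ (stab : Subgroup (GL chevF4.Idx K)) := by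
  have key : ∀ c : Fin chevF4.rank → Kˣ, Blk (tor chevF4 auxF4 c : GL chevF4.Idx K) := fun c i x hx => by
    rw [tor_val, dia, Matrix.diagonal_apply_ne _ (hx i)]
  exact ⟨key c, by rw [← map_inv]; exact key _⟩

omit [CharP K 2] in
theorem bl_tor (c : Fin chevF4.rank → Kˣ) :
    bl (tor chevF4 auxF4 c : GL chevF4.Idx K) = Matrix.diagonal fun i => (chi chevF4 auxF4 c (cl i) : K) := by
  ext i j
  simp only [bl, Matrix.of_apply, tor_val, dia]
  by_cases h : i = j
  · subst h; rw [Matrix.diagonal_apply_eq, Matrix.diagonal_apply_eq]; rfl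
  · rw [Matrix.diagonal_apply_ne _ (fun e => h (ci_inj e)), Matrix.diagonal_apply_ne _ h]

variable {σ : K →+* K}

theorem W_stab (q : K × K × K × K) : F42.W q ∈ (stab : Subgroup (GL chevF4.Idx K)) :=
  mul_mem (mul_mem (mul_mem (xG_stab (by decide) _) (xG_stab (by decide) _)) (xG_stab (by decide) _))
    (xG_stab (by decide) _)

theorem pY_stab (u : K) : pY σ u ∈ (stab : Subgroup (GL chevF4.Idx K)) :=
  mul_mem (xG_stab (by decide) _) (xG_stab (by decide) _)

theorem bl_pW (hi : F42.Inv2 σ) {e : ℕ} (he : ∀ x : K, x ^ e = σ x ^ 2) (t u : K) :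
    bl (pW σ t u) = uMat e (σ t) (σ t * t + u) := by
  have hs : ∀ {r : ℕ}, r ∈ levR → ∀ v : K, Blk (xG g₄ r v) := fun hr v => (xG_stab hr v).1
  have et : σ t ^ e = t := by rw [he, hi]
  have et2 : σ t ^ (e + 2) = t * σ t ^ 2 := by rw [pow_add, et]
  have et1 : σ t ^ (e + 1) = t * σ t := by rw [pow_succ, et]
  rw [pW, F42.W, F42.quad, bl_mul (hs (by decide) _), bl_mul (hs (by decide) _), bl_mul (hs (by decide) _),
    bl_xG (by decide), bl_xG (by decide), bl_xG (by decide), bl_xG (by decide)]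
  have eb2 : (σ t * t + u) ^ e = t * σ (t) ^ 2 + σ u ^ 2 := by
    rw [he, map_add, map_mul, CharTwo.add_sq, mul_pow, hi]
  have h3 : (3 : K) = 1 := by linear_combination (CharTwo.two_eq_zero : (2 : K) = 0)
  ext i j
  fin_cases i <;> fin_cases j <;>
    simp [pat, uMat, CfsgLib.KnownA.Suzuki.fv, Matrix.mul_apply, Fin.sum_univ_four, et, et1, et2, eb2] <;>
    (try ring_nf) <;> simp [CharTwo.two_eq_zero, h3]

theorem bl_n1 : bl (n1 σ : GL chevF4.Idx K) = wMat K := by
  have hs : ∀ {r : ℕ}, r ∈ levR → ∀ v : K, Blk (xG g₄ r v) := fun hr v => (xG_stab hr v).1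
  rw [n1_eq, bl_mul (show Blk (pW σ (1 : K) 1) from (W_stab _).1), bl_mul (pY_stab _).1]
  simp only [pW, pY, F42.W, F42.quad, map_one, map_zero, one_pow]
  rw [bl_mul (hs (by decide) _), bl_mul (hs (by decide) _), bl_mul (hs (by decide) _),
    bl_mul (hs (by decide) _), bl_mul (hs (by decide) _), bl_mul (hs (by decide) _), bl_mul (hs (by decide) _),
    bl_xG (r := 27) (by decide), bl_xG (r := 25) (by decide), bl_xG (r := 28) (by decide),
    bl_xG (r := 30) (by decide), bl_xG (r := 19) (by decide), bl_xG (r := 17) (by decide),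
    bl_xG (r := 28) (by decide), bl_xG (r := 30) (by decide)]
  ext i j
  fin_cases i <;> fin_cases j <;>
    simp [pat, wMat, Matrix.mul_apply, Fin.sum_univ_four, CharTwo.add_self_eq_zero]

end CfsgLib.Chev.F42Mult
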