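import Cfsg.Agent.Lib.Chev.F42Mult.SuzL
import Cfsg.Agent.Lib.Chev.TwOut.SplitDatum

/-!
The lifting data of the large Ree groups of type twisted F4.
-/

set_option autoImplicit false
set_option maxRecDepth 100000

namespace CfsgLib.Chev.F42Mult

open Cfsg.Lie Matrix CfsgLib.Chev CfsgLib.Chev.OrdList CfsgLib.Chev.TwOut
open CfsgLib.KnownB.ChevField CfsgLib.KnownB.ChevAutThm CfsgLib.Chev.TwSub
open CfsgLib.Schur
open CfsgLib.Chev.F42Aut (tc hT hT_mem pP pQ pQ_eq pP_mem pP_mul pP_inj pP_zero n0 n0_mem n0_eq n1 n1_mem exists_hT)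
open CfsgLib.KnownA.Suzuki (TitsField)
open CfsgLib.Steinberg.R1Data (up dn closure_gens)
open scoped MatrixGroups

universe u

variable {K : Type u} [Field K] [CharP K 2] [Fintype K] {σ : K →+* K}

theorem len16 : 4 * 4 ≤ ftabF42.length := by decide +kernel

theorem braid4 : SameOn chevF4 (wf auxF4 (foldF42.flat (alt (2 * 4) false)))
    (wf auxF4 (foldF42.flat (alt (2 * 4) true))) := by
  unfold SameOn
  decide +kernel

theorem back4 : ∀ r ∈ [25, 27, 28, 30], r < chevF4.nroots ∧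
    wf auxF4 (foldF42.flat (alt (2 * (4 - 1) + 1) false)) r ∈ [25, 27, 28, 30] := by
  decide +kernel

/-- the pair group -/
noncomputable def X0 (σ : K →+* K) : Subgroup ↥(F42.tw σ).fix := fX (F42.tw σ) 0

variable (hi : F42.Inv2 σ)

theorem mem_X0 {y : ↥(F42.tw σ).fix} : y ∈ X0 σ ↔ ∃ t, (pairR1 hi).x t = y := by
  rw [X0, fX, Subgroup.mem_subgroupOf, (F42.class0 hi).2]
  exact exists_congr fun t => ⟨fun h => Subtype.ext h, fun h => congrArg Subtype.val h⟩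

theorem phi0_range' :
    (phi0 hi).range = X0 σ ⊔ (X0 σ).map (MulAut.conj (gn0 σ)).toMonoidHom := by
  rw [phi0_range]
  refine le_antisymm ((Subgroup.closure_le _).2 ?_) (sup_le ?_ ?_)
  · have hup : ∀ t, (pairR1 hi).x t ∈ X0 σ := fun t => (mem_X0 hi).2 ⟨t, rfl⟩
    rintro _ (⟨t, rfl⟩ | rfl)
    · exact Subgroup.mem_sup_left (hup t)
    · have e : gn0 σ = (pairR1 hi).x 1 * (gn0 σ * (pairR1 hi).x 1 * (gn0 σ)⁻¹) * (pairR1 hi).x 1 := Subtype.ext (by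
        show n0 σ = pP σ 1 * (n0 σ * pP σ 1 * (n0 σ)⁻¹) * pP σ 1
        rw [← pQ_eq, ← n0_eq])
      have hc : gn0 σ * (pairR1 hi).x 1 * (gn0 σ)⁻¹ ∈ (X0 σ).map (MulAut.conj (gn0 σ)).toMonoidHom :=
        ⟨(pairR1 hi).x 1, hup 1, rfl⟩
      have hm : (pairR1 hi).x 1 * (gn0 σ * (pairR1 hi).x 1 * (gn0 σ)⁻¹) * (pairR1 hi).x 1 ∈
          X0 σ ⊔ (X0 σ).map (MulAut.conj (gn0 σ)).toMonoidHom :=
        mul_mem (mul_mem (Subgroup.mem_sup_left (hup 1)) (Subgroup.mem_sup_right hc))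
          (Subgroup.mem_sup_left (hup 1))
      exact (congrArg (· ∈ X0 σ ⊔ (X0 σ).map (MulAut.conj (gn0 σ)).toMonoidHom) e).mpr hm
  · intro y hy
    obtain ⟨t, rfl⟩ := (mem_X0 hi).1 hy
    exact Subgroup.subset_closure (Or.inl ⟨t, rfl⟩)
  · rintro _ ⟨y, hy, rfl⟩
    obtain ⟨t, rfl⟩ := (mem_X0 hi).1 hy
    have hn : gn0 σ ∈ Subgroup.closure (Set.range (pairR1 hi).x ∪ {gn0 σ}) := Subgroup.subset_closure (Or.inr rfl)
    exact mul_mem (mul_mem hn (Subgroup.subset_closure (Or.inl ⟨t, rfl⟩))) (inv_mem hn)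

include hi in
/-- the rank one condition on the pair -/
theorem rankOne0 {u : ↥(F42.tw σ).fix} (hu : u ∈ X0 σ) (hne : u ≠ 1) :
    ∃ a ∈ X0 σ, ∃ h ∈ TT σ, ∃ b ∈ X0 σ, gn0 σ * u * (gn0 σ)⁻¹ = a * h * gn0 σ * b := by
  obtain ⟨t, rfl⟩ := (mem_X0 hi).1 hu
  have ht : t ≠ 0 := fun h => hne (Subtype.ext (by rw [h]; exact pP_zero))
  refine ⟨_, (mem_X0 hi).2 ⟨t⁻¹, rfl⟩, hh0 hi (Units.mk0 t⁻¹ (inv_ne_zero ht)), tq_mem hi _ _,
    _, (mem_X0 hi).2 ⟨t⁻¹, rfl⟩, ?_⟩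
  have e := (pairR1 hi).n_eq (Units.mk0 t⁻¹ (inv_ne_zero ht))
  rw [Units.val_mk0, inv_inv] at e
  have e2 : (pairR1 hi).x t⁻¹ * (pairR1 hi).x t⁻¹ = 1 := Subtype.ext (by
    show pP σ t⁻¹ * pP σ t⁻¹ = 1
    rw [pP_mul, CharTwo.add_self_eq_zero, pP_zero])
  have e' : hh0 hi (Units.mk0 t⁻¹ (inv_ne_zero ht)) * gn0 σ =
      (pairR1 hi).x t⁻¹ * (gn0 σ * (pairR1 hi).x t * (gn0 σ)⁻¹) * (pairR1 hi).x t⁻¹ := e
  rw [mul_assoc ((pairR1 hi).x t⁻¹) (hh0 hi _) (gn0 σ), e',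
    show ∀ x y : ↥(F42.tw σ).fix, x * (x * y * x) * x = (x * x) * y * (x * x) from fun x y => by group, e2,
    one_mul, mul_one]

include hi in
/-- the diagonal part of the pair subgroup -/
theorem L0_tor {y : ↥(F42.tw σ).fix} (hy : y ∈ X0 σ ⊔ (X0 σ).map (MulAut.conj (gn0 σ)).toMonoidHom)
    (hd : y ∈ TT σ) : ∃ u, (y : GL chevF4.Idx K) = hT σ u 1 := by
  rw [← phi0_range' hi] at hy
  obtain ⟨g, rfl⟩ := hy
  have hdia : ∀ u : Kˣ, hT σ u 1 ∈ chevF4.diagonalSubgroup K := fun u => tq_mem hi u 1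
  rcases sl2_cases g with ⟨a, u, rfl⟩ | ⟨a, b, u, rfl⟩
  · refine ⟨u, ?_⟩
    rw [map_mul, phi0_up, phi0_dia] at hd ⊢
    have hd' : pP σ a * hT σ u 1 ∈ chevF4.diagonalSubgroup K := hd
    have h2 : pP σ a = 1 := Subgroup.mem_bot.1 ((posUnipotent_inf_diagonal (F := K) stdF4).le
      (Subgroup.mem_inf.2 ⟨pP_pos a, (Subgroup.mul_mem_cancel_right _ (hdia u)).1 hd'⟩))
    show pP σ a * hT σ u 1 = _
    rw [h2, one_mul]
  · exfalso
    rw [map_mul, map_mul, map_mul, phi0_up, phi0_up, phi0_dia, phi0_wS] at hd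
    have h1 : pP σ a * hT σ u 1 * n0 σ * pP σ b ∈ chevF4.diagonalSubgroup K := hd
    refine nJ_not_borel (τ := F42.tw σ) (j := 0) (by decide) (tc σ u 1) ?_
    rw [show tor chevF4 auxF4 (tc σ u 1) * (F42.tw σ).nJ 0 =
      (pP σ a)⁻¹ * (pP σ a * hT σ u 1 * n0 σ * pP σ b) * (pP σ b)⁻¹ by rw [hT, n0]; group]
    exact mul_mem (mul_mem (inv_mem (pos_le_borel (pP_pos a))) (diag_le_borel h1))
      (inv_mem (pos_le_borel (pP_pos b)))

omit [Fintype K] in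
theorem hT_one_right (b : Kˣ) : hT σ 1 b = F42.hB (Units.map σ.toMonoidHom b) b := by
  rw [hT, F42.hB, tc, map_one]

include hi in
/-- the torus of the orbit of four lies in its rank one subgroup -/
theorem hT_L1 {D : Subgroup ↥(F42.tw σ).fix} (hn : gn1 σ ∈ D)
    (hconj : ∀ h ∈ TT σ, h * gn1 σ * h⁻¹ ∈ D) (b : Kˣ) : tq hi 1 b ∈ D := by
  obtain ⟨f, hf⟩ := F42.exists_sqrt b
  have h1 := mul_mem (hconj _ (tq_mem hi 1 f)) (inv_mem hn)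
  have e : tq hi 1 f * gn1 σ * (tq hi 1 f)⁻¹ * (gn1 σ)⁻¹ = tq hi 1 b := Subtype.ext (by
    show hT σ 1 f * n1 σ * (hT σ 1 f)⁻¹ * (n1 σ)⁻¹ = hT σ 1 b
    have hinv : (hT σ 1 f)⁻¹ = F42.hB (Units.map σ.toMonoidHom f)⁻¹ f⁻¹ := inv_eq_of_mul_eq_one_right (by
      rw [hT_one_right, F42.hB_mul, mul_inv_cancel, mul_inv_cancel, F42.hB]
      refine (congrArg _ (F42.ext_ix fun k => ?_)).trans (map_one _)
      have key : ∀ k : Fin 4, (![1, 1, 1, 1] : Fin 4 → Kˣ) k = 1 := by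
        intro k; fin_cases k <;> rfl
      exact key k)
    rw [show hT σ 1 f * n1 σ * (hT σ 1 f)⁻¹ * (n1 σ)⁻¹ = hT σ 1 f * (n1 σ * (hT σ 1 f)⁻¹ * (n1 σ)⁻¹) by group,
      hinv, n1, F42.nJ1_hB, inv_inv, inv_inv, hT_one_right, F42.hB_mul, hT_one_right, ← map_mul, hf])
  rwa [e] at h1

include hi in
/-- the torus normalises the rank one subgroup of the orbit of four -/
theorem TT_norm : ∀ h ∈ TT σ, ∀ z ∈ L1 σ, h * z * h⁻¹ ∈ L1 σ := by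
  intro h hh z hz
  have hle : L1 σ ≤ (L1 σ).comap (MulAut.conj h).toMonoidHom := by
    have hX : ∀ g ∈ TT σ, ∀ y ∈ X1 σ, g * y * g⁻¹ ∈ X1 σ := fun g hg y hy => by
      have hg' : (g : GL chevF4.Idx K) ∈ chevF4.diagonalSubgroup K := hg
      rw [diagonalSubgroup_eq stdF4.good] at hg'
      obtain ⟨c, hc⟩ := hg'
      show ((g * y * g⁻¹ : ↥(F42.tw σ).fix) : GL chevF4.Idx K) ∈ (F42.tw σ).V _
      push_cast
      refine Subgroup.mem_inf.2 ⟨?_, mul_mem (mul_mem g.2 y.2) (inv_mem g.2)⟩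
      rw [← hc]
      exact conj_UP_le (acts_tor stdF4.good c) (fun r hr => hr.1.1)
        (fun r t hr => xG_mem_UP stdF4.good (P := toNeg chevF4 (wf auxF4 (foldF42.w 1))) hr t) (hy : _ ∈ (F42.tw σ).V _).1
    refine sup_le (fun y hy => Subgroup.mem_sup_left (hX h hh y hy)) ?_
    rintro _ ⟨y, hy, rfl⟩
    have hinv : gn1 σ * gn1 σ = 1 := Subtype.ext (by
      show n1 σ * n1 σ = 1
      nth_rw 1 [← F42Aut.n1_inv hi]
      exact inv_mul_cancel _)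
    have hh' : gn1 σ * h * (gn1 σ)⁻¹ ∈ TT σ :=
      conj_diag stdF4.good ((F42.tw σ).nJ_mem_monomial (j := 1) (by decide)) hh
    have hninv : (gn1 σ)⁻¹ = gn1 σ := inv_eq_of_mul_eq_one_right hinv
    refine Subgroup.mem_sup_right ⟨(gn1 σ * h * (gn1 σ)⁻¹) * y * (gn1 σ * h * (gn1 σ)⁻¹)⁻¹, hX _ hh' y hy, ?_⟩
    show gn1 σ * ((gn1 σ * h * (gn1 σ)⁻¹) * y * (gn1 σ * h * (gn1 σ)⁻¹)⁻¹) * (gn1 σ)⁻¹ = h * (gn1 σ * y * (gn1 σ)⁻¹) * h⁻¹
    rw [show gn1 σ * ((gn1 σ * h * (gn1 σ)⁻¹) * y * (gn1 σ * h * (gn1 σ)⁻¹)⁻¹) * (gn1 σ)⁻¹ =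
      (gn1 σ * gn1 σ) * (h * ((gn1 σ)⁻¹ * y * gn1 σ) * h⁻¹) * (gn1 σ * gn1 σ)⁻¹ by group, hninv, hinv, one_mul, inv_one, mul_one]
  exact hle hz

variable {e : ℕ} (H : TitsField K e) (he : ∀ x : K, x ^ e = σ x ^ 2) (h4 : 4 ≤ Fintype.card K)

/-- the lifting data -/
noncomputable def datum : RankTwo.Datum 2 ↥(F42.tw σ).fix := by
  refine splitDatum 2 (F42.split hi) (show foldF42.num = 2 from rfl) (k := 4) (by norm_num) len16 braid4 ?_ ?_ ?_ ?_ ?_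
  · intro r hr
    have hiff := ((F42.tw σ).orbit_roots (j := 1) (by decide) (L := [25, 27, 28, 30]) (by decide +kernel)).2.1
    exact (hiff _).2 (back4 r ((hiff r).1 hr)).2
  · intro s
    cases s
    · have h : gn0 σ ∈ (phi0 hi).range := ⟨_, phi0_wS hi⟩
      rwa [phi0_range' hi] at h
    · exact gn1_L1 hi
  · intro s u hu hne
    cases s
    · exact rankOne0 hi hu hne
    · exact rankOne1 hi h4 hu hne
  · intro y hy
    obtain ⟨a, b, ey⟩ := exists_hT hi y.2 hy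
    refine ⟨tq hi a 1, ⟨?_, tq_mem hi a 1⟩, tq hi 1 b, ⟨?_, tq_mem hi 1 b⟩, Subtype.ext ?_⟩
    · have h : hh0 hi a ∈ (phi0 hi).range := ⟨_, phi0_dia hi a⟩
      rwa [phi0_range' hi] at h
    · refine hT_L1 hi (gn1_L1 hi) (fun h hh => ?_) b
      exact TT_norm hi h hh _ (gn1_L1 hi)
    · show (y : GL chevF4.Idx K) = hT σ a 1 * hT σ 1 b
      rw [← hT_mul, mul_one, one_mul, ey]
  · rw [Subgroup.disjoint_def]
    rintro y ⟨h0, hd⟩ ⟨h1, -⟩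
    obtain ⟨u, eu⟩ := L0_tor hi h0 hd
    have hu1 := L1_tor hi H he h1 eu
    refine Subtype.ext ?_
    rw [eu, hu1]
    exact congrArg Subtype.val (map_one (hh0 hi))

end CfsgLib.Chev.F42Mult
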