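import Cfsg.Agent.Lib.Chev.F42Mult.PairL
import Cfsg.Agent.Lib.Chev.F42Mult.Block
import Cfsg.Agent.Lib.KnownA.Suzuki.Generate
import Cfsg.Agent.Lib.Chev.Twist.FixBN

/-!
The rank one subgroup of type twisted B2 inside twisted F4 is a copy of the Suzuki group.
-/

set_option autoImplicit false
set_option maxRecDepth 100000

namespace CfsgLib.Chev.F42Mult

open Cfsg.Lie Matrix CfsgLib.Chev CfsgLib.Chev.OrdList
open CfsgLib.Chev.F42Aut (tc hT hT_mem pW pY pW_mem pY_mem n1 n1_mem n1_eq chi_tc exists_hT pW_mul pW_inj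
  pW_zero)
open CfsgLib.KnownA.Suzuki (TitsField titsField_of_card su sh sw uMat hMat wMat)
open CfsgLib.KnownB.ChevAutThm (pos_inf_neg)
open scoped commutatorElement

variable {K : Type*} [Field K] [CharP K 2] [Fintype K] {σ : K →+* K}

local notation "g₄" => stdF4.good

/-- the roots of the radical -/
def rad : List ℕ := ordF.drop 4

/-- the central torus of the Levi subgroup -/
noncomputable def ZT (hi : F42.Inv2 σ) : Set ↥(F42.tw σ).fix :=
  {z | ∃ x y, z = tq hi x y ∧ wt σ (rt 0) x y = 1}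

/-- the elements commuting with the central torus and normalising the radical -/
noncomputable def Lev (hi : F42.Inv2 σ) : Subgroup ↥(F42.tw σ).fix :=
  Subgroup.centralizer (ZT hi) ⊓ (Subgroup.normalizer (UL K g₄ rad : Set (GL chevF4.Idx K))).subgroupOf (F42.tw σ).fix

theorem lev_chk : (∀ r ∈ [25, 27, 30, 28, 19, 17], r < chevF4.nroots ∧ dep (rt 0) r = true ∧
      ∀ s ∈ rad, pairChk2 r s rad = true) ∧ (∀ r ∈ rad, r < chevF4.nroots) ∧
    commChk2 ordF rad (ordF.drop 6) = true ∧ (∀ r ∈ ordF.drop 6, r ∈ rad) := by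
  decide +kernel

/-- conjugation stable products normalise -/
theorem mem_norm {y : GL chevF4.Idx K} (h : ∀ z ∈ UL K g₄ rad, y * z * y⁻¹ ∈ UL K g₄ rad) :
    y ∈ Subgroup.normalizer (UL K g₄ rad : Set (GL chevF4.Idx K)) := by
  haveI : Finite (GL chevF4.Idx K) := finite_GL
  exact CfsgLib.Schur.ChainSplit.mem_normalizer_of_conj h

theorem norm_pos {y : GL chevF4.Idx K} (hy : y ∈ chevF4.posUnipotent K) :
    y ∈ Subgroup.normalizer (UL K g₄ rad : Set (GL chevF4.Idx K)) := by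
  refine mem_norm fun z hz => ?_
  rw [← UL_ordF] at hy
  have h := UL_mono g₄ lev_chk.2.2.2 (comm2 lev_chk.2.2.1 hy hz)
  have h2 := mul_mem h hz
  rwa [commutatorElement_def, inv_mul_cancel_right] at h2

theorem norm_diag {y : GL chevF4.Idx K} (hy : y ∈ chevF4.diagonalSubgroup K) :
    y ∈ Subgroup.normalizer (UL K g₄ rad : Set (GL chevF4.Idx K)) := by
  rw [diagonalSubgroup_eq g₄] at hy
  obtain ⟨c, rfl⟩ := hy
  refine mem_norm fun z hz => conj_UL (fun r hr t => ?_) hz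
  rw [tor_conj_xG g₄ c (lev_chk.2.1 r hr)]
  exact xG_mem_UL g₄ hr _

theorem norm_lev {L : List ℕ} (hL : ∀ r ∈ L, r ∈ [25, 27, 30, 28, 19, 17]) {y : GL chevF4.Idx K}
    (hy : y ∈ UL K g₄ L) : y ∈ Subgroup.normalizer (UL K g₄ rad : Set (GL chevF4.Idx K)) := by
  refine (Subgroup.closure_le _).2 ?_ hy
  rintro _ ⟨r, t, hr, rfl⟩
  refine mem_norm fun z hz => conj_UL (fun s hs u => ?_) hz
  obtain ⟨w, hw, e⟩ := pair_conj2 ((lev_chk.1 r (hL r hr)).2.2 s hs) t u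
  rw [e]
  exact mul_mem (xG_mem_UL g₄ hs u) hw

variable (hi : F42.Inv2 σ)

theorem lev_UL {L : List ℕ} (hL : ∀ r ∈ L, r ∈ [25, 27, 30, 28, 19, 17]) {y : ↥(F42.tw σ).fix}
    (hy : (y : GL chevF4.Idx K) ∈ UL K g₄ L) : y ∈ Lev hi := by
  refine Subgroup.mem_inf.2 ⟨?_, Subgroup.mem_subgroupOf.2 (norm_lev hL hy)⟩
  rw [Subgroup.mem_centralizer_iff]
  rintro _ ⟨a, b, rfl, hw⟩
  exact Subtype.ext (tor_fix (fun r hr => (lev_chk.1 r (hL r hr)).1)
    (fun r hr => dep_ker hi (lev_chk.1 r (hL r hr)).2.1 hw) hy)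

theorem lev_diag {y : ↥(F42.tw σ).fix} (hy : y ∈ TT σ) : y ∈ Lev hi := by
  refine Subgroup.mem_inf.2 ⟨?_, Subgroup.mem_subgroupOf.2 (norm_diag hy)⟩
  rw [Subgroup.mem_centralizer_iff]
  rintro _ ⟨a, b, rfl, -⟩
  exact TT_comm _ (tq_mem hi a b) _ hy

/-- root elements in the fixed group -/
noncomputable def gW (t u : K) : ↥(F42.tw σ).fix := ⟨pW σ t u, pW_mem hi t u⟩

/-- the Weyl element in the fixed group -/
noncomputable def gn1 (σ : K →+* K) : ↥(F42.tw σ).fix := ⟨n1 σ, n1_mem⟩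

omit [Fintype K] in
theorem pW_UL (t u : K) : pW σ t u ∈ UL K g₄ [25, 27, 30, 28] :=
  mul_mem (mul_mem (mul_mem (xG_mem_UL g₄ (by decide) _) (xG_mem_UL g₄ (by decide) _))
    (xG_mem_UL g₄ (by decide) _)) (xG_mem_UL g₄ (by decide) _)

theorem gW_lev (t u : K) : gW hi t u ∈ Lev hi := lev_UL hi (by decide) (pW_UL t u)

theorem gn1_lev : gn1 σ ∈ Lev hi := by
  have e : gn1 σ = gW hi 1 0 * ⟨pY σ 1, pY_mem hi 1⟩ * gW hi 1 1 := Subtype.ext n1_eq
  rw [e]
  refine mul_mem (mul_mem (gW_lev hi _ _) (lev_UL hi (L := [19, 17]) (by decide) ?_)) (gW_lev hi _ _)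
  exact mul_mem (xG_mem_UL g₄ (by decide) _) (xG_mem_UL g₄ (by decide) _)

theorem word_chk : ∀ e ∈ ftabF42, (rad.all fun r => decide (chevF4.IsPosRoot (wf auxF4 (foldF42.flat e.word) r))) = true →
    SameOn chevF4 (wf auxF4 (foldF42.flat e.word)) id ∨
      SameOn chevF4 (wf auxF4 (foldF42.flat e.word)) (wf auxF4 (foldF42.w 1)) := by
  unfold SameOn
  decide +kernel

theorem rad_pos : ∀ r ∈ rad, chevF4.IsPosRoot r ∧ sepChk chevF4 auxF4 [] = true := by decide +kernel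

theorem indep_rad : ∀ i < 12, 2 ≤ i → indep (rt 0) (rt i) = true := by decide +kernel

/-- the unipotent elements centralising the central torus -/
theorem pos_lev (h4 : 4 ≤ Fintype.card K) {u : ↥(F42.tw σ).fix}
    (hu : (u : GL chevF4.Idx K) ∈ chevF4.posUnipotent K) (hc : u ∈ Subgroup.centralizer (ZT hi)) :
    ∃ t v, (u : GL chevF4.Idx K) = pW σ t v := by
  obtain ⟨c, hc1⟩ := F42.exists_unit h4
  obtain ⟨x, y, e0, e2⟩ := exists_pair hi (indep_rad 2 (by omega) le_rfl) 1 c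
  have hne : ∀ i < 12, 2 ≤ i → wt σ (rt i) x y ≠ 1 := by
    intro i h12 h2 e
    obtain ⟨rfl, rfl⟩ := indep_ker hi (indep_rad i h12 h2) e0 e
    apply hc1
    rw [← e2, wt_eq, ev_one, ev_one, one_mul]
  have hu' : (u : GL chevF4.Idx K) ∈ UL K g₄ (ordF.drop (2 * 0)) := by
    rw [show ordF.drop (2 * 0) = ordF from rfl, UL_ordF]; exact hu
  obtain ⟨t0, -, h0⟩ := cover hi (show 0 < 12 by omega) (series_chk 0 (by omega)).1 (series_chk 0 (by omega)).2.2
    hu' u.2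
  have hf1 : (mv σ 0 t0)⁻¹ * (u : GL chevF4.Idx K) ∈ (F42.tw σ).fix := mul_mem (inv_mem (mv_fix hi 0 t0)) u.2
  obtain ⟨t1, -, h1⟩ := cover hi (show 1 < 12 by omega) (series_chk 1 (by omega)).1 (series_chk 1 (by omega)).2.2
    h0 hf1
  set ρ : ↥(F42.tw σ).fix := (gm hi 1 t1)⁻¹ * ((gm hi 0 t0)⁻¹ * u) with hρ
  have hg : ∀ i t, i = 0 ∨ i = 1 → gm hi i t ∈ Subgroup.centralizer (ZT hi) := fun i t h => by
    refine (Subgroup.mem_inf.1 (lev_UL hi (L := grp i) ?_ ?_)).1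
    · rcases h with rfl | rfl <;> decide
    · exact (head_mv (by omega) (grp_chk i (by omega)) (fun _ h => h) t).mem
  have hρc : ρ ∈ Subgroup.centralizer (ZT hi) :=
    mul_mem (inv_mem (hg 1 t1 (Or.inr rfl))) (mul_mem (inv_mem (hg 0 t0 (Or.inl rfl))) hc)
  have hρz : ⁅hT σ x y, (ρ : GL chevF4.Idx K)⁆ = 1 := by
    rw [commutatorElement_eq_one_iff_mul_comm]
    exact congrArg Subtype.val (Subgroup.mem_centralizer_iff.1 hρc _ ⟨x, y, rfl, e0⟩)
  have hdown : ∀ k, k ≤ 10 → (ρ : GL chevF4.Idx K) ∈ UL K g₄ (ordF.drop (2 * (k + 2))) := by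
    intro k
    induction k with
    | zero => intro _; exact h1
    | succ k ih =>
      intro hk
      have h := ih (by omega)
      rw [(series_chk (k + 2) (by omega)).2.1] at h
      exact low_of_free (series_chk (k + 2) (by omega)).1 (hne _ (by omega) (by omega)) h ρ.2
        (by rw [hρz]; exact one_mem _)
  have hlast := hdown 10 le_rfl
  rw [show ordF.drop (2 * (10 + 2)) = [] from rfl, UL_nil, Subgroup.mem_bot] at hlast
  have e : u = gm hi 0 t0 * gm hi 1 t1 := by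
    have h : ρ = 1 := Subtype.ext hlast
    rw [hρ, inv_mul_eq_one] at h
    rw [h, mul_inv_cancel_left]
  have hm0 : mv σ 0 t0 ∈ (F42.tw σ).V (foldF42.w 1) := by
    refine ((F42.class1 hi).2 _).2 ⟨t0, 0, ?_⟩
    show F42.W (F42.quad σ t0 0) = F42Invol.P σ { a0 := t0 }
    rw [F42Invol.el_a0]
    simp [F42.W, F42.quad, F42.xx, xG_zero, mul_assoc]
  have hm1 : mv σ 1 t1 ∈ (F42.tw σ).V (foldF42.w 1) := by
    refine ((F42.class1 hi).2 _).2 ⟨0, σ t1, ?_⟩
    show F42.W (F42.quad σ 0 (σ t1)) = F42Invol.P σ { b0 := t1 }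
    rw [F42Invol.el_b0]
    simp [F42.W, F42.quad, F42.xx, xG_zero, hi t1]
  obtain ⟨t, v, ev⟩ := ((F42.class1 hi).2 _).1 (mul_mem hm0 hm1)
  exact ⟨t, v, by rw [e]; exact ev.symm⟩

set_option maxHeartbeats 1000000 in
theorem lev_cases (h4 : 4 ≤ Fintype.card K) {y : ↥(F42.tw σ).fix} (hy : y ∈ Lev hi) :
    (∃ t u, ∃ h ∈ TT σ, y = gW hi t u * h) ∨
      ∃ t u t' u', ∃ h ∈ TT σ, y = gW hi t u * h * gn1 σ * gW hi t' u' := by
  obtain ⟨u, hu, t, ht, e, he, v, hv, ey⟩ := (F42.tw σ).fix_decomp ftabF42_ok y.2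
  have hl : ∀ j ∈ e.word, j < foldF42.num := ftabF42_ok.letters e he
  have hw := (F42.tw σ).valid.flat_letters hl
  set n := nW K g₄ (foldF42.flat e.word)
  set N := Subgroup.normalizer (UL K g₄ rad : Set (GL chevF4.Idx K))
  have hyN : (y : GL chevF4.Idx K) ∈ N := Subgroup.mem_subgroupOf.1 (Subgroup.mem_inf.1 hy).2
  have hvU := (F42.tw σ).V_le_pos _ hv
  have hn : n ∈ N := by
    have h := mul_mem (mul_mem (inv_mem (mul_mem (norm_pos hu.1) (norm_diag ht.1))) hyN) (inv_mem (norm_pos hvU.1))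
    rwa [ey, show ∀ a b c : GL chevF4.Idx K, a⁻¹ * (a * b * c) * c⁻¹ = b from fun a b c => by group] at h
  have hA := nW_acts (F := K) g₄ hw
  have hpos : (rad.all fun r => decide (chevF4.IsPosRoot (wf auxF4 (foldF42.flat e.word) r))) = true := by
    rw [List.all_eq_true]
    intro r hr
    rw [decide_eq_true_eq]
    by_contra hneg
    have hr' := (rad_pos r hr).1
    have hlt := wf_lt g₄ hw hr'.1
    have h1 : n * xG g₄ r 1 * n⁻¹ ∈ chevF4.posUnipotent K := by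
      rw [← UL_ordF]
      exact UL_mono g₄ (fun s hs => List.mem_of_mem_drop hs)
        ((Subgroup.mem_normalizer_iff.1 hn _).1 (xG_mem_UL g₄ hr 1))
    have h2 : n * xG g₄ r 1 * n⁻¹ ∈ chevF4.negUnipotent K := by
      rw [nW_conj_xG g₄ hw hr'.1]
      exact xG_mem_negUnipotent g₄ (isNeg_of_not_pos g₄ hlt hneg) _
    have h3 := pos_inf_neg stdF4 h1 h2
    rw [conj_eq_one_iff] at h3
    exact one_ne_zero (eq_zero_of_mem stdF4 (rad_pos r hr).2 hr' (List.not_mem_nil) (h3 ▸ one_mem _)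
      (fun _ h => absurd h List.not_mem_nil))
  have hyc : y ∈ Subgroup.centralizer (ZT hi) := (Subgroup.mem_inf.1 hy).1
  set gu : ↥(F42.tw σ).fix := ⟨u, hu.2⟩
  rcases word_chk e he hpos with hid | hw1
  · have hv1 : v = 1 := by rw [(F42.tw σ).V_id hid] at hv; exact hv
    have hd : t * n ∈ chevF4.diagonalSubgroup K :=
      mul_mem ht.1 (mem_diag_of_id stdF4 (nW_mem g₄ hw) hA hid)
    set h : ↥(F42.tw σ).fix := ⟨t * n, mul_mem ht.2 ((F42.tw σ).nFlat_fix hl)⟩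
    have hh : h ∈ TT σ := hd
    have e1 : y = gu * h := Subtype.ext (by rw [ey, hv1, mul_one, mul_assoc]; rfl)
    have hgu : gu ∈ Subgroup.centralizer (ZT hi) := by
      rw [show gu = y * h⁻¹ by rw [e1, mul_inv_cancel_right]]
      exact mul_mem hyc (inv_mem (Subgroup.mem_inf.1 (lev_diag hi hh)).1)
    obtain ⟨a, b, eu⟩ := pos_lev hi h4 (u := gu) hu.1 hgu
    exact Or.inl ⟨a, b, h, hh, by rw [e1, show gW hi a b = gu from Subtype.ext eu.symm]⟩
  · rw [(F42.tw σ).V_congr hw1] at hv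
    obtain ⟨t', v', ev⟩ := ((F42.class1 hi).2 v).1 hv
    have hd : n * (n1 σ)⁻¹ ∈ chevF4.diagonalSubgroup K :=
      diag_of_sameOn stdF4 (nW_mem g₄ hw) ((F42.tw σ).nJ_mem_monomial (j := 1) (by decide)) hA
        ((F42.tw σ).nJ_acts (j := 1) (by decide)) hw1
    set h : ↥(F42.tw σ).fix := ⟨t * (n * (n1 σ)⁻¹),
      mul_mem ht.2 (mul_mem ((F42.tw σ).nFlat_fix hl) (inv_mem n1_mem))⟩
    have hh : h ∈ TT σ := mul_mem ht.1 hd
    have e1 : y = gu * h * gn1 σ * gW hi t' v' := Subtype.ext (by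
      rw [ey]
      show u * t * n * v = u * (t * (n * (n1 σ)⁻¹)) * n1 σ * pW σ t' v'
      rw [show pW σ t' v' = v from ev]
      group)
    have hgu : gu ∈ Subgroup.centralizer (ZT hi) := by
      rw [show gu = y * (gW hi t' v')⁻¹ * (gn1 σ)⁻¹ * h⁻¹ by rw [e1]; group]
      exact mul_mem (mul_mem (mul_mem hyc (inv_mem (Subgroup.mem_inf.1 (gW_lev hi _ _)).1))
        (inv_mem (Subgroup.mem_inf.1 (gn1_lev hi)).1)) (inv_mem (Subgroup.mem_inf.1 (lev_diag hi hh)).1)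
    obtain ⟨a, b, eu⟩ := pos_lev hi h4 (u := gu) hu.1 hgu
    exact Or.inr ⟨a, b, t', v', h, hh, by rw [e1, show gW hi a b = gu from Subtype.ext eu.symm]⟩

end CfsgLib.Chev.F42Mult
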