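import Cfsg.Agent.Lib.Chev.F42Mult.Series
import Cfsg.Agent.Lib.Chev.TwOut.RankOneSL2

/-!
The rank one subgroup of the pair of twisted F4 is a copy of `SL₂`.
-/

set_option autoImplicit false
set_option maxRecDepth 100000

namespace CfsgLib.Chev.F42Mult

open Cfsg.Lie Matrix CfsgLib.Chev CfsgLib.Chev.F42 CfsgLib.Chev.TwOut
open CfsgLib.Chev.F42Aut (tc hT hT_mem pP pQ pP_mem pP_mul pP_inj n0 n0_mem n0_eq n0_inv pQ_eq hT_pP hT_pQ wa)
open CfsgLib.Steinberg (R1Data)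
open CfsgLib.Steinberg.R1Data (up dn closure_gens)
open scoped MatrixGroups

variable {K : Type*} [Field K] [CharP K 2] [Fintype K] {σ : K →+* K}

omit [Fintype K] in
theorem hT_mul (x x' y y' : Kˣ) : hT σ (x * x') (y * y') = hT σ x y * hT σ x' y' := by
  rw [hT, hT, hT, ← map_mul]
  congr 1
  refine ext_ix fun k => ?_
  have key : ∀ k : Fin 4, (![Units.map σ.toMonoidHom (x * x'), Units.map σ.toMonoidHom (y * y'), y * y', x * x'] :
      Fin 4 → Kˣ) k = (![Units.map σ.toMonoidHom x, Units.map σ.toMonoidHom y, y, x] : Fin 4 → Kˣ) k *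
        (![Units.map σ.toMonoidHom x', Units.map σ.toMonoidHom y', y', x'] : Fin 4 → Kˣ) k := by
    intro k; fin_cases k <;> simp
  exact key k

omit [Fintype K] in
theorem hT_inj {x y x' y' : Kˣ} (h : hT σ x y = hT σ x' y') : x = x' ∧ y = y' := by
  have h' := tor_inj h
  exact ⟨congrFun h' (ix 3), congrFun h' (ix 2)⟩

omit [Fintype K] in
theorem n0_hT (x : Kˣ) : n0 σ * hT σ x 1 * (n0 σ)⁻¹ = hT σ x⁻¹ 1 := by
  have hc : ∀ j : Fin 4, auxF4.cart j.val (chevF4.simple 0) = [2, -1, 0, 0].getD j.val 0 ∧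
      auxF4.cart j.val (chevF4.simple 3) = [0, 0, -1, 2].getD j.val 0 := by decide +kernel
  have s0 : ∀ a b : Kˣ, nS K stdF4.good 0 * tor chevF4 auxF4 (v4 a 1 1 b) * (nS K stdF4.good 0)⁻¹ =
      tor chevF4 auxF4 (v4 a⁻¹ 1 1 b) := by
    intro a b
    rw [nS_conj_tor stdF4.good (show 0 < chevF4.rank by decide +kernel)]
    congr 1
    refine ext_ix fun k => ?_
    have hp : (∏ j : Fin 4, (![a, 1, 1, b] : Fin 4 → Kˣ) j ^ (-auxF4.cart j.val (chevF4.simple 0))) =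
        (a ^ 2)⁻¹ := by
      simp only [Fin.prod_univ_four, (hc _).1]
      simp [_root_.zpow_neg]
    have key : ∀ k : Fin 4, (![a, 1, 1, b] : Fin 4 → Kˣ) k *
        (Pi.mulSingle (0 : Fin 4) (a ^ 2)⁻¹ : Fin 4 → Kˣ) k = (![a⁻¹, 1, 1, b] : Fin 4 → Kˣ) k := by
      intro k; fin_cases k <;> simp
      rw [sq]; group
    rw [← hp] at key
    exact key k
  have s3 : ∀ a b : Kˣ, nS K stdF4.good 3 * tor chevF4 auxF4 (v4 a 1 1 b) * (nS K stdF4.good 3)⁻¹ =
      tor chevF4 auxF4 (v4 a 1 1 b⁻¹) := by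
    intro a b
    rw [nS_conj_tor stdF4.good (show 3 < chevF4.rank by decide +kernel)]
    congr 1
    refine ext_ix fun k => ?_
    have hp : (∏ j : Fin 4, (![a, 1, 1, b] : Fin 4 → Kˣ) j ^ (-auxF4.cart j.val (chevF4.simple 3))) =
        (b ^ 2)⁻¹ := by
      simp only [Fin.prod_univ_four, (hc _).2]
      simp [_root_.zpow_neg]
    have key : ∀ k : Fin 4, (![a, 1, 1, b] : Fin 4 → Kˣ) k *
        (Pi.mulSingle (3 : Fin 4) (b ^ 2)⁻¹ : Fin 4 → Kˣ) k = (![a, 1, 1, b⁻¹] : Fin 4 → Kˣ) k := by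
      intro k; fin_cases k <;> simp
      rw [sq]; group
    rw [← hp] at key
    exact key k
  have e : hT σ x 1 = tor chevF4 auxF4 (v4 (Units.map σ.toMonoidHom x) 1 1 x) := by
    rw [hT, tc, map_one]
  have e' : hT σ x⁻¹ 1 = tor chevF4 auxF4 (v4 (Units.map σ.toMonoidHom x)⁻¹ 1 1 x⁻¹) := by
    rw [hT, tc, map_one, map_inv]
  rw [e, e']
  show nW K stdF4.good [0, 3] * _ * (nW K stdF4.good [0, 3])⁻¹ = _
  simp only [nW, List.map_cons, List.map_nil, List.prod_cons, List.prod_nil, mul_one]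
  set a := nS K stdF4.good 0
  set b := nS K stdF4.good 3
  rw [show ∀ h, a * b * h * (a * b)⁻¹ = a * (b * h * b⁻¹) * a⁻¹ from fun h => by group]
  rw [s3, s0]

/-- the torus of the pair -/
noncomputable def hh0 (hi : Inv2 σ) : Kˣ →* ↥(tw σ).fix :=
  MonoidHom.mk' (fun u => ⟨hT σ u 1, hT_mem hi u 1⟩) fun a b => Subtype.ext (by
    show hT σ (a * b) 1 = hT σ a 1 * hT σ b 1
    rw [← hT_mul, mul_one])

/-- the Weyl element of the pair -/
noncomputable def gn0 (σ : K →+* K) : ↥(tw σ).fix := ⟨n0 σ, n0_mem⟩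

omit [Fintype K] in
theorem gn0_sq : gn0 σ * gn0 σ = 1 := by
  refine Subtype.ext ?_
  show n0 σ * n0 σ = 1
  nth_rw 1 [← n0_inv (σ := σ)]
  exact inv_mul_cancel _

/-- the rank one data of the pair -/
noncomputable def pairR1 (hi : Inv2 σ) : R1Data K ↥(tw σ).fix where
  x t := ⟨pP σ t, pP_mem hi t⟩
  hh := hh0 hi
  N := gn0 σ
  x_add t u := Subtype.ext (pP_mul t u)
  hh_x a t := Subtype.ext (by
    show hT σ a 1 * pP σ t * (hT σ a 1)⁻¹ = _
    rw [hT_pP hi]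
    simp [wa, sq])
  N_hh a := Subtype.ext (n0_hT a)
  n_eq c := Subtype.ext (by
    show hT σ c 1 * n0 σ = pP σ c * (n0 σ * pP σ ((c : K))⁻¹ * (n0 σ)⁻¹) * pP σ c
    obtain ⟨s, hs⟩ := exists_sqrt c
    have e := congrArg (fun y => hT σ s 1 * y * (hT σ s 1)⁻¹) (n0_eq (σ := σ))
    rw [show hT σ s 1 * (pP σ 1 * pQ σ 1 * pP σ 1) * (hT σ s 1)⁻¹ =
      (hT σ s 1 * pP σ 1 * (hT σ s 1)⁻¹) * (hT σ s 1 * pQ σ 1 * (hT σ s 1)⁻¹) *
        (hT σ s 1 * pP σ 1 * (hT σ s 1)⁻¹) by group, hT_pP hi, hT_pQ hi, mul_one, mul_one,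
      show wa s 1 = (c : K) by rw [← hs]; simp [wa, sq], pQ_eq] at e
    rw [← e]
    have h2 : n0 σ * (hT σ s 1)⁻¹ = hT σ s 1 * n0 σ := by
      have h3 := n0_hT (σ := σ) s⁻¹
      rw [inv_inv, mul_inv_eq_iff_eq_mul] at h3
      rw [← h3, show (hT σ s 1)⁻¹ = hT σ s⁻¹ 1 from (eq_inv_of_mul_eq_one_left
        (by rw [← hT_mul, inv_mul_cancel, mul_one]; exact map_one (hh0 hi) |> congrArg Subtype.val)).symm]
    rw [mul_assoc, h2, ← mul_assoc, ← hT_mul, hs, mul_one])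
  N_sq := by
    rw [show (-1 : Kˣ) = 1 from Units.ext (CharTwo.neg_eq 1), map_one, inv_one]
    exact gn0_sq

/-- the homomorphism onto the rank one subgroup of the pair -/
noncomputable def phi0 (hi : Inv2 σ) : SL(2, K) →* ↥(tw σ).fix := (pairR1 hi).exists_hom.choose

variable (hi : Inv2 σ)

theorem phi0_up (t : K) : phi0 hi (up t) = (pairR1 hi).x t :=
  ((pairR1 hi).exists_hom.choose_spec (up t) t).1 rfl

theorem phi0_dn (t : K) : phi0 hi (dn t) = (pairR1 hi).y t :=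
  ((pairR1 hi).exists_hom.choose_spec (dn t) t).2 rfl

theorem phi0_dia (u : Kˣ) : phi0 hi (dia2 u) = hh0 hi u := by
  have e : dia2 u = up (u : K) * dn (-(u : K)⁻¹) * up (u : K) * (up (-1) * dn 1 * up (-1)) := by
    refine Subtype.ext ?_
    ext i j
    fin_cases i <;> fin_cases j <;>
      simp [dia2, SpecialLinearGroup.coe_mul, Matrix.mul_apply, Fin.sum_univ_two]
  have h1 : (pairR1 hi).hh (-1) * (pairR1 hi).N = gn0 σ := by
    rw [show (-1 : Kˣ) = 1 from Units.ext (CharTwo.neg_eq 1), map_one, one_mul]; rfl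
  have e1 := (pairR1 hi).n_eq u
  have e2 := (pairR1 hi).n_eq (-1)
  rw [e, map_mul, map_mul, map_mul, map_mul, map_mul, phi0_up, phi0_dn, phi0_up, phi0_dn]
  simp only [R1Data.y, neg_neg]
  rw [← e1]
  simp only [Units.val_neg, Units.val_one, inv_neg, inv_one] at e2
  rw [← e2, h1]
  show hh0 hi u * gn0 σ * gn0 σ = _
  rw [mul_assoc, gn0_sq, mul_one]

theorem phi0_wS : phi0 hi R1Data.wS = gn0 σ := by
  have e : (R1Data.wS : SL(2, K)) = up 1 * dn (-1) * up 1 := by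
    refine Subtype.ext ?_
    ext p q
    fin_cases p <;> fin_cases q <;>
      simp [SpecialLinearGroup.coe_mul, Matrix.mul_apply, Fin.sum_univ_two]
  have e1 := (pairR1 hi).n_eq 1
  simp only [Units.val_one, inv_one, map_one, one_mul] at e1
  rw [e, map_mul, map_mul, phi0_up, phi0_dn]
  simp only [R1Data.y, neg_neg]
  exact e1.symm

theorem pP_pos (t : K) : pP σ t ∈ chevF4.posUnipotent K :=
  mul_mem (xG_mem_posUnipotent stdF4.good (by decide +kernel) _)
    (xG_mem_posUnipotent stdF4.good (by decide +kernel) _)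

theorem phi0_injective : Function.Injective (phi0 hi) := by
  rw [injective_iff_map_eq_one]
  intro g hg
  have hd : ∀ u : Kˣ, hT σ u 1 ∈ chevF4.diagonalSubgroup K := fun u => by
    rw [diagonalSubgroup_eq stdF4.good]; exact ⟨_, rfl⟩
  rcases sl2_cases g with ⟨a, u, rfl⟩ | ⟨a, b, u, rfl⟩
  · rw [map_mul, phi0_up, phi0_dia] at hg
    have h1 : pP σ a * hT σ u 1 = 1 := congrArg Subtype.val hg
    have h2 : pP σ a = 1 := Subgroup.mem_bot.1 ((posUnipotent_inf_diagonal (F := K) stdF4).le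
      (Subgroup.mem_inf.2 ⟨pP_pos a, by rw [eq_inv_of_mul_eq_one_left h1]; exact inv_mem (hd u)⟩))
    have ha : a = 0 := pP_inj (h2.trans (by simp [pP, F42Aut.xx_zero]))
    rw [h2, one_mul, ← show hT σ 1 1 = (1 : GL chevF4.Idx K) from congrArg Subtype.val (map_one (hh0 hi))] at h1
    rw [ha, (hT_inj h1).1]
    refine Subtype.ext ?_
    simp [SpecialLinearGroup.coe_mul, Matrix.one_fin_two]
  · exfalso
    rw [map_mul, map_mul, map_mul, phi0_up, phi0_up, phi0_dia, phi0_wS] at hg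
    have h1 : pP σ a * hT σ u 1 * n0 σ * pP σ b = 1 := congrArg Subtype.val hg
    refine nJ_not_borel (τ := tw σ) (j := 0) (by decide) (tc σ u 1) ?_
    rw [show tor chevF4 auxF4 (tc σ u 1) * (tw σ).nJ 0 =
      (pP σ a)⁻¹ * (pP σ a * hT σ u 1 * n0 σ * pP σ b) * (pP σ b)⁻¹ by rw [hT, n0]; group, h1, mul_one]
    exact mul_mem (inv_mem (pos_le_borel (pP_pos a))) (inv_mem (pos_le_borel (pP_pos b)))

theorem phi0_range :
    (phi0 hi).range = Subgroup.closure (Set.range (pairR1 hi).x ∪ {gn0 σ}) := by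
  rw [MonoidHom.range_eq_map, ← closure_gens, MonoidHom.map_closure, Set.image_union, ← Set.range_comp,
    Set.image_singleton, phi0_wS]
  rw [show (phi0 hi : SL(2, K) → ↥(tw σ).fix) ∘ up = (pairR1 hi).x from funext fun t => phi0_up hi t]

end CfsgLib.Chev.F42Mult
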