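import Cfsg.Agent.Lib.Chev.F42Mult.Series
import Cfsg.Agent.Lib.Schur.LiftComm

/-!
Central extensions over the fixed unipotent part of twisted F4.
-/

set_option autoImplicit false
set_option maxRecDepth 100000
set_option maxHeartbeats 1000000
set_option linter.unusedSimpArgs false

namespace CfsgLib.Chev.F42Mult

open Cfsg.Lie Matrix CfsgLib.Chev CfsgLib.Chev.F42Invol CfsgLib.Chev.OrdList
open CfsgLib.Schur.ChainSplit CfsgLib.Schur.LiftComm
open CfsgLib.Chev.F42Aut (tc hT hT_mem)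
open scoped commutatorElement

variable {K : Type*} [Field K] [CharP K 2] [Fintype K] {σ : K →+* K}

local notation "g₄" => stdF4.good

theorem grp_lt : ∀ i < 12, ∀ r ∈ grp i, r < chevF4.nroots := by decide +kernel

theorem grp_dep : ∀ i < 12, ∀ r ∈ grp i, dep (rt i) r = true := by decide +kernel

/-- the coordinate of the central roots of an even direction -/
def up (i : ℕ) : ℕ := if i = 0 then 1 else if i = 3 then 7 else if i = 4 then 10 else 11

theorem ext_chk : ∀ i < 12, ext i = [] ∨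
    (i ∈ [0, 3, 4, 5] ∧ ext i = grp (up i) ∧ up i < 12 ∧ ext (up i) = [] ∧ dep (rt (up i)) (rt i) = true) := by
  decide +kernel

omit [Fintype K] in
theorem grp_mem_iff (i : ℕ) (p : ↥(F42.tw σ).fix) :
    p ∈ Grp σ i ↔ (p : GL chevF4.Idx K) ∈ UL K g₄ (rt i :: rt' i :: ext i) := Iff.rfl

/-- only the identity is fixed by a torus element moving the leading root -/
theorem free_grp (hi : F42.Inv2 σ) {i : ℕ} (h12 : i < 12) {x y : Kˣ} (hw : wt σ (rt i) x y ≠ 1)
    {z : ↥(F42.tw σ).fix} (hz : z ∈ Grp σ i) (hc : tq hi x y * z = z * tq hi x y) : z = 1 := by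
  have h1 : ⁅hT σ x y, (z : GL chevF4.Idx K)⁆ = 1 := by
    rw [commutatorElement_eq_one_iff_mul_comm]
    exact congrArg Subtype.val hc
  have h2 := low_of_free (grp_chk i h12) hw hz z.2 (h1 ▸ one_mem _)
  rcases ext_chk i h12 with e | ⟨-, e, hu, eu, hd⟩
  · rw [e, UL_nil, Subgroup.mem_bot] at h2
    exact Subtype.ext h2
  · have hw' : wt σ (rt (up i)) x y ≠ 1 := fun h => hw (dep_ker hi hd h)
    rw [e] at h2
    have h3 := low_of_free (grp_chk _ hu) hw' h2 z.2 (h1 ▸ one_mem _)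
    rw [eu, UL_nil, Subgroup.mem_bot] at h3
    exact Subtype.ext h3

theorem grp_conj (hi : F42.Inv2 σ) {i : ℕ} (h12 : i < 12) (x y : Kˣ) {z : ↥(F42.tw σ).fix}
    (hz : z ∈ Grp σ i) : tq hi x y * z * (tq hi x y)⁻¹ ∈ Grp σ i := by
  rw [Grp, Subgroup.mem_subgroupOf]
  push_cast
  exact tor_UL (grp_lt i h12) x y hz

theorem grp_norm {i : ℕ} (h12 : i < 12) {t v : ↥(F42.tw σ).fix} (ht : t ∈ TT σ) (hv : v ∈ Grp σ i) :
    t * v * t⁻¹ ∈ Grp σ i := by
  have ht' : (t : GL chevF4.Idx K) ∈ chevF4.diagonalSubgroup K := ht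
  rw [diagonalSubgroup_eq g₄] at ht'
  obtain ⟨c, hc⟩ := ht'
  show ((t * v * t⁻¹ : ↥(F42.tw σ).fix) : GL chevF4.Idx K) ∈ UL K g₄ _
  push_cast
  refine conj_UL (fun r hr u => ?_) hv
  rw [← hc, tor_conj_xG g₄ c (grp_lt i h12 r hr)]
  exact xG_mem_UL g₄ hr _

theorem commute_grp {i j : ℕ} (hc : commChk2 (grp i) (grp j) [] = true) {p a : ↥(F42.tw σ).fix}
    (hp : p ∈ Grp σ i) (ha : a ∈ Grp σ j) : p * a = a * p := by
  have h := comm2 hc (show (p : GL chevF4.Idx K) ∈ UL K g₄ (grp i) from hp)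
    (show (a : GL chevF4.Idx K) ∈ UL K g₄ (grp j) from ha)
  rw [UL_nil, Subgroup.mem_bot, commutatorElement_eq_one_iff_mul_comm] at h
  exact Subtype.ext h

theorem gm_grp (hi : F42.Inv2 σ) {i : ℕ} (h12 : i < 12) (t : K) : gm hi i t ∈ Grp σ i :=
  (head_mv h12 (grp_chk i h12) (fun _ h => h) t).mem

theorem gm_series (hi : F42.Inv2 σ) {i : ℕ} (h12 : i < 12) (t : K) : gm hi i t ∈ V σ i := by
  show mv σ i t ∈ UL K g₄ _
  rw [(series_chk i h12).2.1]
  exact (head_mv h12 (series_chk i h12).1 (series_chk i h12).2.2 t).mem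

/-- the exact parametrisation of a group of one coordinate -/
theorem gm_eq (hi : F42.Inv2 σ) {i : ℕ} (h12 : i < 12) (he : ext i = []) {z : ↥(F42.tw σ).fix} {t : K}
    (hz : Head (rt i) (rt' i) [] t (z : GL chevF4.Idx K)) : gm hi i t = z := by
  have hc : blockChk (rt i) (rt' i) [] = true := he ▸ grp_chk i h12
  have h := same_head hc (head_mv (σ := σ) h12 hc (by simp [he]) t) hz (mv_fix hi i t) z.2
  rw [UL_nil, Subgroup.mem_bot, inv_mul_eq_one] at h
  exact Subtype.ext h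

theorem exists_gm (hi : F42.Inv2 σ) {i : ℕ} (h12 : i < 12) (he : ext i = []) {z : ↥(F42.tw σ).fix}
    (hz : z ∈ Grp σ i) : ∃ t, gm hi i t = z := by
  rw [grp_mem_iff, he] at hz
  obtain ⟨t, h, -⟩ := cover (σ := σ) hi h12 (he ▸ grp_chk i h12) (by simp [he]) hz z.2
  exact ⟨t, gm_eq hi h12 he h⟩

theorem gm_facts (hi : F42.Inv2 σ) {i : ℕ} (h12 : i < 12) (he : ext i = []) :
    (∀ s t, gm hi i (s + t) = gm hi i s * gm hi i t) ∧
      (∀ x y t, tq hi x y * gm hi i t * (tq hi x y)⁻¹ = gm hi i ((wt σ (rt i) x y : K) * t)) ∧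
      gm hi i 0 = 1 := by
  have hc : blockChk (rt i) (rt' i) [] = true := he ▸ grp_chk i h12
  have hh : ∀ t, Head (rt i) (rt' i) [] t (mv σ i t) := fun t => head_mv h12 hc (by simp [he]) t
  refine ⟨fun s t => gm_eq hi h12 he ?_, fun x y t => (gm_eq hi h12 he ?_).symm,
    gm_eq hi h12 he (Head.of_low (one_mem _))⟩
  · exact Head.mul hc (hh s) (hh t)
  · exact (hh t).conj hc x y

universe w

variable {Γ : Type w} [Group Γ] {π : Γ →* ↥(F42.tw σ).fix}

/-- lifts from two coordinate groups with independent characters commute -/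
theorem lc_indep (hi : F42.Inv2 σ) (h4 : 4 < Fintype.card K) (hc : π.ker ≤ Subgroup.center Γ)
    (hsurj : Function.Surjective π) {i j : ℕ} (hi12 : i < 12) (hj12 : j < 12)
    (hind : indep (rt i) (rt j) = true) (hcom : commChk2 (grp i) (grp j) [] = true) {p a : ↥(F42.tw σ).fix}
    (hp : p ∈ Grp σ i) (ha : a ∈ Grp σ j) : LC π p a := by
  classical
  obtain ⟨c, hc1⟩ : ∃ c : Kˣ, c ≠ 1 := F42.exists_unit (by omega)
  obtain ⟨x, y, ex', ey'⟩ := exists_pair hi hind c 1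
  set t := tq hi x y
  have hta : t * a = a * t :=
    Subtype.ext (tor_fix (grp_lt j hj12) (fun r hr => dep_ker hi (grp_dep j hj12 r hr) ey') ha)
  let f : Grp σ i → Grp σ i := fun q => ⟨⁅t, (q : ↥(F42.tw σ).fix)⁆, by
    rw [commutatorElement_def]; exact mul_mem (grp_conj hi hi12 x y q.2) (inv_mem q.2)⟩
  have hinj : Function.Injective f := by
    intro u v e
    have e1 : t * u * t⁻¹ * (u : ↥(F42.tw σ).fix)⁻¹ = t * v * t⁻¹ * (v : ↥(F42.tw σ).fix)⁻¹ := by
      have := congrArg Subtype.val e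
      simpa [f, commutatorElement_def] using this
    refine Subtype.ext ?_
    have hz : (u : ↥(F42.tw σ).fix)⁻¹ * v = 1 := by
      refine free_grp hi hi12 (ex' ▸ hc1) (mul_mem (inv_mem u.2) v.2) ?_
      calc t * ((u : ↥(F42.tw σ).fix)⁻¹ * v)
          = (t * u * t⁻¹)⁻¹ * (t * v * t⁻¹ * (v : ↥(F42.tw σ).fix)⁻¹) * v * t := by group
        _ = _ := by rw [← e1]; simp only [t]; group
    exact inv_mul_eq_one.1 hz
  obtain ⟨q, hq⟩ := Finite.injective_iff_surjective.1 hinj ⟨p, hp⟩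
  have e : ⁅t, (q : ↥(F42.tw σ).fix)⁆ = p := congrArg Subtype.val hq
  rw [← e]
  exact lc_twist hc hsurj (commute_grp hcom q.2 ha) hta

/-- lifts of one additive coordinate group commute -/
theorem lc_self (hi : F42.Inv2 σ) (h4 : 4 < Fintype.card K) (hc : π.ker ≤ Subgroup.center Γ)
    (hsurj : Function.Surjective π) {i : ℕ} (h12 : i < 12) (he : ext i = [])
    (hcom : commChk2 (grp i) (grp i) [] = true) {p a : ↥(F42.tw σ).fix} (hp : p ∈ Grp σ i)
    (ha : a ∈ Grp σ i) : LC π p a := by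
  obtain ⟨hadd, hconj, -⟩ := gm_facts hi h12 he
  obtain ⟨s, rfl⟩ := exists_gm hi h12 he hp
  obtain ⟨u, rfl⟩ := exists_gm hi h12 he ha
  refine lc_form hc hsurj h4 (fun h => absurd CharTwo.two_eq_zero h) _ _ hadd hadd
    (fun a b => commute_grp hcom (gm_grp hi h12 a) (gm_grp hi h12 b)) (fun r hr => ?_) s u
  obtain ⟨x, y, e⟩ := wt_surj hi h12 (Units.mk0 (r ^ 2) (pow_ne_zero _ hr))
  exact ⟨tq hi x y, fun a => by rw [hconj, e, Units.val_mk0]; exact ⟨rfl, rfl⟩⟩

omit [Fintype K] in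
theorem witness :
    mv σ 0 1 * mv σ 8 1 = mv σ 9 1 * mv σ 11 1 * (mv σ 8 1 * mv σ 0 1) ∧
    mv σ 6 1 * mv σ 3 1 = mv σ 9 1 * mv σ 10 1 * (mv σ 3 1 * mv σ 6 1) ∧
    mv σ 4 1 * mv σ 2 1 = mv σ 8 1 * mv σ 7 1 * (mv σ 2 1 * mv σ 4 1) := by
  refine ⟨?_, ?_, ?_⟩
  · show P σ { a0 := (1 : K) } * P σ { c5 := 1 } =
      P σ { c3 := 1 } * P σ { b4 := 1 } * (P σ { c5 := 1 } * P σ { a0 := 1 })
    rw [el_a0, el_c5, el_c3, el_b4]
    simp only [map_one, mul_one]
    sortX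
    simp only [one_pow, one_mul, CharTwo.add_self_eq_zero, F42Invol.X_zero]
  · show P σ { c1 := (1 : K) } * P σ { a6 := 1 } =
      P σ { c3 := 1 } * P σ { b2 := 1 } * (P σ { a6 := 1 } * P σ { c1 := 1 })
    rw [el_c1, el_a6, el_c3, el_b2]
    simp only [map_one, mul_one]
    sortX
    simp only [one_pow, one_mul, CharTwo.add_self_eq_zero, F42Invol.X_zero]
  · show P σ { a2 := (1 : K) } * P σ { c7 := 1 } =
      P σ { c5 := 1 } * P σ { b6 := 1 } * (P σ { c7 := 1 } * P σ { a2 := 1 })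
    rw [el_a2, el_c7, el_c5, el_b6]
    simp only [map_one, mul_one]
    sortX
    simp only [one_pow, one_mul, CharTwo.add_self_eq_zero, F42Invol.X_zero]

/-- a commutator of two coordinate groups supplies the central lifts of a third direction -/
theorem lc_trick (hi : F42.Inv2 σ) (h4 : 4 < Fintype.card K) (hc : π.ker ≤ Subgroup.center Γ)
    (hsurj : Function.Surjective π) {ia ib ix iy ic : ℕ} (ha : ia < 12) (hb : ib < 12) (hx : ix < 12)
    (hy : iy < 12) (hcc : ic < 12) (he : ext ib = [])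
    (chk : indep (rt ix) (rt ia) = true ∧ commChk2 (grp ix) (grp ia) [] = true ∧
      indep (rt iy) (rt ia) = true ∧ commChk2 (grp iy) (grp ia) [] = true ∧
      indep (rt ic) (rt ia) = true ∧ commChk2 (grp ic) (grp ia) [] = true)
    (hw : mv σ ix 1 * mv σ iy 1 = mv σ ic 1 * mv σ ib 1 * (mv σ iy 1 * mv σ ix 1))
    {b a : ↥(F42.tw σ).fix} (hbm : b ∈ Grp σ ib) (ham : a ∈ Grp σ ia) : LC π b a := by
  obtain ⟨i1, c1, i2, c2, i3, c3⟩ := chk
  obtain ⟨-, hconj, h0⟩ := gm_facts hi hb he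
  have hone : ∀ a ∈ Grp σ ia, LC π (gm hi ib 1) a := by
    intro a ham
    have e : gm hi ib 1 = (gm hi ic 1)⁻¹ * ⁅gm hi ix 1, gm hi iy 1⁆ := by
      have hw' : gm hi ix 1 * gm hi iy 1 = gm hi ic 1 * gm hi ib 1 * (gm hi iy 1 * gm hi ix 1) := Subtype.ext hw
      rw [commutatorElement_def, hw']
      group
    rw [e]
    exact lc_mul_left hc hsurj (lc_inv_left hc hsurj (lc_indep hi h4 hc hsurj hcc ha i3 c3 (gm_grp hi hcc 1) ham))
      (lc_comm hc hsurj (lc_indep hi h4 hc hsurj hx ha i1 c1 (gm_grp hi hx 1) ham)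
        (lc_indep hi h4 hc hsurj hy ha i2 c2 (gm_grp hi hy 1) ham))
  obtain ⟨u, rfl⟩ := exists_gm hi hb he hbm
  by_cases hu : u = 0
  · subst hu; rw [h0]; exact lc_one_left hc a
  obtain ⟨x, y, e⟩ := wt_surj hi hb (Units.mk0 u hu)
  set t := tq hi x y
  have ht' : (tq hi x y)⁻¹ * a * tq hi x y ∈ Grp σ ia := by
    simpa using grp_norm ha (inv_mem (tq_mem hi x y)) ham
  have h := lc_conj hc hsurj (hone _ ht') (tq hi x y)
  rw [hconj, e, Units.val_mk0, mul_one, show tq hi x y * ((tq hi x y)⁻¹ * a * tq hi x y) * (tq hi x y)⁻¹ = a by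
    group] at h
  exact h

theorem n0_grp : ∀ r ∈ grp 0, (∀ i ∈ foldF42.w 0, i < chevF4.rank) ∧
    r < chevF4.nroots ∧ wf auxF4 (foldF42.w 0) r ∈ grp 3 ∧
    (sgnW auxF4 (foldF42.w 0) r = 1 ∨ sgnW auxF4 (foldF42.w 0) r = -1) := by decide +kernel

theorem n0_grp' : ∀ r ∈ grp 1, (∀ i ∈ foldF42.w 0, i < chevF4.rank) ∧
    r < chevF4.nroots ∧ wf auxF4 (foldF42.w 0) r ∈ grp 7 ∧
    (sgnW auxF4 (foldF42.w 0) r = 1 ∨ sgnW auxF4 (foldF42.w 0) r = -1) := by decide +kernel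

/-- lifts of the two groups of an even direction commute -/
theorem lc_even (hi : F42.Inv2 σ) (h4 : 4 < Fintype.card K) (hc : π.ker ≤ Subgroup.center Γ)
    (hsurj : Function.Surjective π) {i : ℕ} (hmem : i ∈ [0, 3, 4, 5]) {b a : ↥(F42.tw σ).fix}
    (hb : b ∈ Grp σ (up i)) (ha : a ∈ Grp σ i) : LC π b a := by
  obtain ⟨w1, w2, w3⟩ := witness (σ := σ) (K := K)
  have h6 : ∀ {b a : ↥(F42.tw σ).fix}, b ∈ Grp σ 7 → a ∈ Grp σ 3 → LC π b a := fun hb ha =>
    lc_trick hi h4 hc hsurj (ia := 3) (ib := 7) (ix := 4) (iy := 2) (ic := 8) (by omega) (by omega) (by omega)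
      (by omega) (by omega) rfl (by decide +kernel) w3 hb ha
  simp only [List.mem_cons, List.not_mem_nil, or_false] at hmem
  rcases hmem with rfl | rfl | rfl | rfl
  · set n : ↥(F42.tw σ).fix := ⟨(F42.tw σ).nJ 0, (F42.tw σ).nJ_fix (by decide)⟩
    have key : ∀ {L L' : List ℕ}, (∀ r ∈ L, (∀ i ∈ foldF42.w 0, i < chevF4.rank) ∧
        r < chevF4.nroots ∧ wf auxF4 (foldF42.w 0) r ∈ L' ∧
        (sgnW auxF4 (foldF42.w 0) r = 1 ∨ sgnW auxF4 (foldF42.w 0) r = -1)) → ∀ {z : ↥(F42.tw σ).fix},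
        (z : GL chevF4.Idx K) ∈ UL K g₄ L → ((n * z * n⁻¹ : ↥(F42.tw σ).fix) : GL chevF4.Idx K) ∈ UL K g₄ L' := by
      intro L L' h z hz
      push_cast
      refine conj_UL (fun r hr s => ?_) hz
      obtain ⟨h1, h2, h3, h4⟩ := h r hr
      rw [show (n : GL chevF4.Idx K) = nW K g₄ (foldF42.w 0) from rfl,
        show xG g₄ r s = F42.xx r s from rfl, F42.conj_nW h1 h2 rfl h4]
      exact xG_mem_UL g₄ h3 _
    have h := lc_conj hc hsurj (h6 (b := n * b * n⁻¹) (a := n * a * n⁻¹) (key n0_grp' hb) (key n0_grp ha)) n⁻¹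
    simpa [mul_assoc] using h
  · exact h6 hb ha
  · exact lc_trick hi h4 hc hsurj (ia := 4) (ib := 10) (ix := 6) (iy := 3) (ic := 9) (by omega) (by omega)
      (by omega) (by omega) (by omega) rfl (by decide +kernel) w2 hb ha
  · exact lc_trick hi h4 hc hsurj (ia := 5) (ib := 11) (ix := 0) (iy := 8) (ic := 9) (by omega) (by omega)
      (by omega) (by omega) (by omega) rfl (by decide +kernel) w1 hb ha

theorem pairs_chk : ∀ i < 12, ∀ j < i,
    indep (rt j) (rt i) = true ∨ (j ∈ [0, 3, 4, 5] ∧ i = up j ∧ ext i = [] ∧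
      commChk2 (grp i) (grp i) [] = true) := by
  decide +kernel

/-- the kernel meets the commutator of the preimage of the unipotent part trivially -/
theorem p_part [Finite Γ] (hi : F42.Inv2 σ) (h4 : 4 < Fintype.card K) (hc : π.ker ≤ Subgroup.center Γ)
    (hsurj : Function.Surjective π) :
    ∀ x ∈ ⁅((chevF4.posUnipotent K).subgroupOf (F42.tw σ).fix).comap π,
      ((chevF4.posUnipotent K).subgroupOf (F42.tw σ).fix).comap π⁆, x ∈ π.ker → x = 1 := by
  rw [← V_zero]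
  obtain ⟨c, hc1⟩ : ∃ c : Kˣ, c ≠ 1 := F42.exists_unit (by omega)
  refine eq_one_of_mem' π hsurj hc 12 (V σ) V_last (fun i h => V_anti h) (fun i h => V_comm h) (TT σ) TT_comm
    (fun i _ => V_norm i) (fun i h => ?_) (fun i h j hj => ?_)
  · obtain ⟨x, y, e⟩ := wt_surj hi h c
    exact ⟨_, tq_mem hi x y, V_free hi h (e ▸ hc1)⟩
  rcases Nat.lt_or_eq_of_le hj with hlt | rfl
  · rcases pairs_chk i h j hlt with hind | ⟨hje, rfl, he, hcom⟩
    · obtain ⟨x, y, e1, e2⟩ := exists_pair hi hind c 1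
      exact Or.inl (Or.inl ⟨_, tq_mem hi x y, V_triv hi h e2, V_free hi (by omega) (e1 ▸ hc1)⟩)
    · refine Or.inl (Or.inr (Or.inr ⟨Grp σ j, Grp σ (up j), ?_, ?_, ?_⟩))
      · intro v hv
        have hj12 : j < 12 := by omega
        obtain ⟨t, -, ht⟩ := cover hi hj12 (series_chk j hj12).1 (series_chk j hj12).2.2 (mem_series hj12 hv) v.2
        exact ⟨gm hi j t, gm_grp hi hj12 t, gm_series hi hj12 t, ht⟩
      · intro v hv
        obtain ⟨t, -, ht⟩ := cover hi h (series_chk _ h).1 (series_chk _ h).2.2 (mem_series h hv) v.2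
        exact ⟨gm hi _ t, gm_grp hi h t, gm_series hi h t, ht⟩
      · intro a b ha hb
        exact lc_symm (lc_even hi h4 hc hsurj hje hb ha) a b rfl rfl
  · exact Or.inr (no_self_form hi h4 h)

end CfsgLib.Chev.F42Mult
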