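import Cfsg.Agent.Lib.Chev.F42Mult.Datum
import Cfsg.Agent.Lib.Chev.F42Mult.Two
import Cfsg.Agent.Lib.Schur.TransferKill
import Cfsg.Agent.Lib.Schur.Basic

/-!
The multiplier of the large Ree groups of type twisted F4.
-/

set_option autoImplicit false
set_option maxRecDepth 100000

namespace CfsgLib.Chev.F42Mult

open Cfsg.Lie Matrix CfsgLib.Chev CfsgLib.Schur
open scoped MatrixGroups

universe u v

variable {K : Type u} [Field K] [CharP K 2] [Fintype K] {σ : K →+* K}

/-- the kernel of a stem extension is trivial -/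
theorem stem_trivial {m : ℕ} (hm : 1 ≤ m) (hK : Fintype.card K = 2 ^ (2 * m + 1))
    (hσ : ∀ x, σ x = x ^ (2 ^ m)) (hi : F42.Inv2 σ) {Γ : Type v} [Group Γ] [Finite Γ]
    (π : Γ →* ↥(F42.tw σ).fix) (hs : Cfsg.IsStemExtension π) : π.ker = ⊥ := by
  haveI : Fact (Nat.Prime 2) := ⟨Nat.prime_two⟩
  haveI : Finite (GL chevF4.Idx K) := finite_GL
  have h8 : 4 < Fintype.card K := by
    rw [hK]
    calc 4 < 2 ^ 3 := by norm_num
      _ ≤ 2 ^ (2 * m + 1) := Nat.pow_le_pow_right two_pos (by omega)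
  have H := CfsgLib.KnownA.Suzuki.titsField_of_card (F := K) hK
  have he : ∀ x : K, x ^ (2 ^ (m + 1)) = σ x ^ 2 := fun x => by
    rw [hσ, ← pow_mul, pow_succ]
  obtain ⟨hsurj, hc, hst⟩ := hs
  obtain ⟨P, hP⟩ := F42Aut.sylow_U (p := 2) (F42.split hi)
  have hco : (Nat.card π.ker).Coprime 2 := by
    refine TransferKill.ker_coprime π hsurj hc hst _ ?_ (p_part hi h8 hc hsurj)
    rw [← hP]
    exact P.not_dvd_index
  have hperf : _root_.commutator Γ = ⊤ := by
    rw [eq_top_iff]
    intro g _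
    have hmap : (_root_.commutator Γ).map π = ⊤ := by
      rw [commutator_def, Subgroup.map_commutator, Subgroup.map_top_of_surjective π hsurj, ← commutator_def,
        F42.perfect hσ hi h8.le]
    obtain ⟨c, hc', e⟩ := (show π g ∈ (_root_.commutator Γ).map π by rw [hmap]; exact Subgroup.mem_top _)
    have h1 : c⁻¹ * g ∈ π.ker := by rw [MonoidHom.mem_ker, map_mul, map_inv, e, inv_mul_cancel]
    have h2 := mul_mem hc' (hst h1)
    rwa [mul_inv_cancel_left] at h2
  refine RankTwo.ker_trivial π (datum hi H he h8.le) hsurj hc hco hperf fun s => ?_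
  cases s
  · exact RankTwo.liftL_inf_ker π (datum hi H he h8.le) false hsurj hc hco (phi0 hi) (phi0_injective hi)
      (phi0_range' hi) (RankTwo.primeTo_SL2 2)
  · exact RankTwo.liftL_inf_ker π (datum hi H he h8.le) true hsurj hc hco (phi1 hi H he h8.le)
      (phi1_injective hi H he h8.le) (phi1_range hi H he h8.le) (primeTo_Sz H hK)

end CfsgLib.Chev.F42Mult
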