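import Cfsg.Agent.Lib.Chev.F42Invol.Tools
import Cfsg.Agent.Lib.Chev.OrdList

/-!
Twelve coordinates of the fixed unipotent part of twisted F4 along a central series.
-/

set_option autoImplicit false
set_option maxRecDepth 100000
set_option maxHeartbeats 1000000

namespace CfsgLib.Chev.F42Mult

open Cfsg.Lie Matrix CfsgLib.Chev CfsgLib.Chev.F42Invol CfsgLib.Chev.OrdList
open scoped commutatorElement

variable {K : Type*} [Field K]

local notation "g₄" => stdF4.good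

/-- leading roots -/
def rt (i : ℕ) : ℕ := [25, 30, 24, 26, 31, 41, 32, 42, 43, 45, 46, 47].getD i 0
/-- their partners -/
def rt' (i : ℕ) : ℕ := [27, 28, 33, 34, 35, 29, 37, 36, 38, 39, 40, 44].getD i 0
/-- the central roots of the even directions -/
def ext (i : ℕ) : List ℕ := [[30, 28], [], [], [42, 36], [46, 40], [47, 44]].getD i []
/-- the roots of one coordinate group -/
def grp (i : ℕ) : List ℕ := rt i :: rt' i :: ext i
/-- all positive roots along the series -/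
def ordF : List ℕ :=
  [25, 27, 30, 28, 24, 33, 26, 34, 31, 35, 41, 29, 32, 37, 42, 36, 43, 38, 45, 39, 46, 40, 47, 44]

/-- a pair of roots before a stable list -/
noncomputable def blockChk (r r' : ℕ) (L : List ℕ) : Bool :=
  decide (foldF42.r r' = r ∧ isoF4.l r' ≠ 0 ∧ chevF4.IsPosRoot r ∧ chevF4.IsPosRoot r' ∧
      r ∉ r' :: L ∧ r' ∉ L ∧ ∀ s ∈ L, chevF4.IsPosRoot s ∧ foldF42.r s ∈ L) &&
    ordChk chevF4 auxF4 (r :: r' :: L) && sepChk chevF4 auxF4 (r' :: L) && sepChk chevF4 auxF4 L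

theorem series_chk : ∀ i < 12, blockChk (rt i) (rt' i) (ordF.drop (2 * (i + 1))) = true ∧
    ordF.drop (2 * i) = rt i :: rt' i :: ordF.drop (2 * (i + 1)) ∧
    (∀ s ∈ ext i, s ∈ ordF.drop (2 * (i + 1))) := by
  decide +kernel

theorem grp_chk : ∀ i < 12, blockChk (rt i) (rt' i) (ext i) = true := by decide +kernel

/-- two roots whose commutator terms of odd coefficient lie in `L` -/
noncomputable def pairChk2 (r s : ℕ) (L : List ℕ) : Bool :=
  decide (r < chevF4.nroots) && decide (s < chevF4.nroots) &&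
    (decide (s = r) || (decide (s ≠ auxF4.neg r) && (oddTerms r s).all fun c => L.contains c.1))

/-- commutators of two lists lie in `M` in characteristic two -/
noncomputable def commChk2 (L L' M : List ℕ) : Bool :=
  L.all (fun r => L'.all fun s => pairChk2 r s M) &&
    L.all (fun r => M.all fun s => pairChk2 r s M) && L'.all (fun r => M.all fun s => pairChk2 r s M)

theorem pair_conj2 [CharP K 2] {r s : ℕ} {L : List ℕ} (hc : pairChk2 r s L = true) :
    OrdList.PairOK (F := K) g₄ r s L := by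
  intro t u
  simp only [pairChk2, Bool.and_eq_true, Bool.or_eq_true, decide_eq_true_eq, List.all_eq_true,
    List.contains_iff_mem] at hc
  obtain ⟨⟨hr, hs⟩, rfl | ⟨hsn, hT⟩⟩ := hc
  · exact ⟨1, one_mem _, by rw [mul_one, xG_inv, xG_add, xG_add]; congr 1; ring⟩
  by_cases hsr : s = r
  · subst hsr
    exact ⟨1, one_mem _, by rw [mul_one, xG_inv, xG_add, xG_add]; congr 1; ring⟩
  refine ⟨((oddTerms r s).map fun c => X c.1 (t ^ c.2.1 * u ^ c.2.2)).prod,
    list_prod_mem fun y hy => ?_, ?_⟩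
  · obtain ⟨c, hc, rfl⟩ := List.mem_map.1 hy
    exact xG_mem_UL g₄ (hT c hc) _
  · rw [inv_eq, mul_assoc, swG hr hs hsr hsn, ← mul_assoc, xG_add, CharTwo.add_self_eq_zero, xG_zero,
      one_mul]

theorem comm2 [CharP K 2] {L L' M : List ℕ} (hc : commChk2 L L' M = true) {y z : GL chevF4.Idx K}
    (hy : y ∈ UL K g₄ L) (hz : z ∈ UL K g₄ L') : ⁅y, z⁆ ∈ UL K g₄ M := by
  simp only [commChk2, Bool.and_eq_true, List.all_eq_true] at hc
  obtain ⟨⟨h1, h2⟩, h3⟩ := hc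
  exact comm_UL_of stdF4 (fun r hr s hs => pair_conj2 (h1 r hr s hs))
    (fun r hr s hs => pair_conj2 (h2 r hr s hs)) (fun r hr s hs => pair_conj2 (h3 r hr s hs)) hy hz

theorem comm_series : ∀ i < 12, commChk2 ordF (ordF.drop (2 * i)) (ordF.drop (2 * (i + 1))) = true := by
  decide +kernel

theorem ord_ok : ordChk chevF4 auxF4 ordF = true ∧ (∀ r ∈ ordF, r ∈ chevF4.posRoots) ∧
    (∀ r ∈ chevF4.posRoots, r ∈ ordF) := by
  decide +kernel

theorem UL_ordF : UL K g₄ ordF = chevF4.posUnipotent K := by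
  rw [← UL_posRoots (F := K) g₄]
  exact le_antisymm (UL_mono g₄ ord_ok.2.1) (UL_mono g₄ ord_ok.2.2)

/-- the parameters with one nonzero coordinate -/
def cos (i : ℕ) (t : K) : Co K :=
  [({ a0 := t } : Co K), { b0 := t }, { c7 := t }, { a6 := t }, { a2 := t }, { a4 := t }, { c1 := t },
    { b6 := t }, { c5 := t }, { c3 := t }, { b2 := t }, { b4 := t }].getD i {}

variable [CharP K 2] {σ : K →+* K}

/-- the coordinate element -/
noncomputable def mv (σ : K →+* K) (i : ℕ) (t : K) : GL chevF4.Idx K := P σ (cos i t)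

theorem mv_fix [Fintype K] (hi : F42.Inv2 σ) (i : ℕ) (t : K) : mv σ i t ∈ (F42.tw σ).fix := P_fix hi _

omit [CharP K 2] in
theorem blk {r r' : ℕ} {L : List ℕ} (hc : blockChk r r' L = true) :
    foldF42.r r' = r ∧ isoF4.l r' ≠ 0 ∧ chevF4.IsPosRoot r ∧ chevF4.IsPosRoot r' ∧
      r ∉ r' :: L ∧ r' ∉ L ∧ (∀ s ∈ L, chevF4.IsPosRoot s ∧ foldF42.r s ∈ L) ∧
      ordChk chevF4 auxF4 (r :: r' :: L) = true ∧ sepChk chevF4 auxF4 (r' :: L) = true ∧
      sepChk chevF4 auxF4 L = true := by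
  simp only [blockChk, Bool.and_eq_true, decide_eq_true_eq] at hc
  obtain ⟨⟨⟨⟨a, b, c, d, e, f, g⟩, h⟩, i⟩, j⟩ := hc
  exact ⟨a, b, c, d, e, f, g, h, i, j⟩

/-- `y` has leading coefficient `t` -/
def Head (r r' : ℕ) (L : List ℕ) (t : K) (y : GL chevF4.Idx K) : Prop :=
  ∃ v ∈ UL K g₄ (r' :: L), y = xG g₄ r t * v

omit [CharP K 2] in
theorem head_mk {r r' : ℕ} {L : List ℕ} (hc : blockChk r r' L = true) {t : K} {a c : GL chevF4.Idx K}
    (ha : a ∈ UL K g₄ (r' :: L)) (hcc : c ∈ UL K g₄ (r' :: L)) : Head r r' L t (a * (xG g₄ r t * c)) := by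
  obtain ⟨-, -, -, -, -, -, -, ho, -, -⟩ := blk hc
  have h1 := ord_head stdF4 ho (-t) ha
  rw [← xG_inv, inv_inv] at h1
  exact ⟨_, mul_mem h1 hcc, by group⟩

omit [CharP K 2] in
theorem Head.mem {r r' : ℕ} {L : List ℕ} {t : K} {y : GL chevF4.Idx K} (h : Head r r' L t y) :
    y ∈ UL K g₄ (r :: r' :: L) := by
  obtain ⟨v, hv, rfl⟩ := h
  exact mul_mem (xG_mem_UL g₄ List.mem_cons_self _)
    (UL_mono g₄ (fun s hs => List.mem_cons_of_mem _ hs) hv)

omit [CharP K 2] in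
theorem Head.mul {r r' : ℕ} {L : List ℕ} (hc : blockChk r r' L = true) {s t : K} {x y : GL chevF4.Idx K}
    (hx : Head r r' L s x) (hy : Head r r' L t y) : Head r r' L (s + t) (x * y) := by
  obtain ⟨v, hv, rfl⟩ := hx
  obtain ⟨w, hw, rfl⟩ := hy
  obtain ⟨u, hu, e⟩ := head_mk hc (t := t) hv hw
  exact ⟨u, hu, by rw [mul_assoc, e, ← mul_assoc, xG_add]⟩

omit [CharP K 2] in
/-- the leading coefficient is unique -/
theorem Head.unique {r r' : ℕ} {L : List ℕ} (hc : blockChk r r' L = true) {s t : K}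
    {y : GL chevF4.Idx K} (hs : Head r r' L s y) (ht : Head r r' L t y) : s = t := by
  obtain ⟨-, -, pr, pr', nr, -, hL, -, hs2, -⟩ := blk hc
  obtain ⟨v, hv, rfl⟩ := hs
  obtain ⟨w, hw, e⟩ := ht
  have h1 : xG g₄ r (-t + s) = w * v⁻¹ := by
    rw [← xG_add, ← xG_inv, eq_mul_inv_iff_mul_eq, mul_assoc, e, inv_mul_cancel_left]
  have h0 := eq_zero_of_mem stdF4 hs2 pr nr (h1 ▸ mul_mem hw (inv_mem hv)) (fun x hx => by
    rcases List.mem_cons.1 hx with rfl | hx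
    exacts [pr', (hL x hx).1])
  exact (neg_add_eq_zero.1 h0).symm

/-- a fixed element without leading coefficient lies below -/
theorem fix_drop {r r' : ℕ} {L : List ℕ} (hc : blockChk r r' L = true) {y : GL chevF4.Idx K}
    (hy : y ∈ UL K g₄ (r' :: L)) (hf : y ∈ (F42.tw σ).fix) : y ∈ UL K g₄ L := by
  obtain ⟨hrr, hl, pr, pr', nr, -, hL, ho, hs2, -⟩ := blk hc
  obtain ⟨u, w, hw, rfl⟩ := exists_head stdF4 (ord_tail ho).1 hy
  obtain ⟨w', hw', hm⟩ := (F42.tw σ).maps_UP (P := fun r => r ∈ L) (Q := fun r => r ∈ L)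
    (fun r hr => (hL r hr).1.1) (fun r hr => (hL r hr).2) (show w ∈ UP K g₄ (fun r => r ∈ L) from hw)
  have h1 := Twist.Maps.fun_eq _ hf (Twist.Maps.mul _ ((F42.tw σ).maps_xG pr'.1 u) hm)
  rw [hrr] at h1
  have hw2 : ∀ {z}, z ∈ UL K g₄ L → z ∈ UL K g₄ (r' :: L) := fun hz =>
    UL_mono g₄ (fun r hr => List.mem_cons_of_mem _ hr) hz
  have h2 : (F42.tw σ).phi r' u = 0 := by
    refine eq_zero_of_mem stdF4 hs2 pr nr ?_ (fun x hx => by
      rcases List.mem_cons.1 hx with rfl | hx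
      exacts [pr', (hL x hx).1])
    rw [show xG g₄ r ((F42.tw σ).phi r' u) = xG g₄ r' u * w * w'⁻¹ by rw [h1, mul_inv_cancel_right]]
    exact mul_mem (mul_mem (xG_mem_UL g₄ List.mem_cons_self _) (hw2 hw)) (inv_mem (hw2 hw'))
  rw [F42.phi_eq rfl] at h2
  have h3 : u = 0 := by simpa [hl] using h2
  simpa [h3, xG_zero] using hw

omit [CharP K 2] in
theorem head_mv {i : ℕ} (hi : i < 12) {L : List ℕ} (hc : blockChk (rt i) (rt' i) L = true)
    (hx : ∀ s ∈ ext i, s ∈ L) (t : K) : Head (rt i) (rt' i) L t (mv σ i t) := by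
  have hr : ∀ u : K, xG g₄ (rt' i) u ∈ UL K g₄ (rt' i :: L) := fun u => xG_mem_UL g₄ List.mem_cons_self u
  have he : ∀ s ∈ ext i, ∀ u : K, xG g₄ s u ∈ UL K g₄ (rt' i :: L) := fun s hs u =>
    xG_mem_UL g₄ (List.mem_cons_of_mem _ (hx s hs)) u
  have hone : ∀ a ∈ UL K g₄ (rt' i :: L), Head (rt i) (rt' i) L t (a * xG g₄ (rt i) t) := fun a ha => by
    simpa using head_mk hc (t := t) ha (one_mem _)
  unfold mv
  interval_cases i
  · exact el_a0 (σ := σ) t ▸ head_mk hc (hr _) (he 28 (by decide) _)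
  · exact el_b0 (σ := σ) t ▸ hone _ (hr _)
  · exact el_c7 (σ := σ) t ▸ hone _ (hr _)
  · exact el_a6 (σ := σ) t ▸ head_mk hc (hr _) (he 36 (by decide) _)
  · exact el_a2 (σ := σ) t ▸ head_mk hc (hr _) (he 40 (by decide) _)
  · exact el_a4 (σ := σ) t ▸ head_mk hc (hr _) (he 44 (by decide) _)
  · exact el_c1 (σ := σ) t ▸ hone _ (hr _)
  · exact el_b6 (σ := σ) t ▸ hone _ (hr _)
  · exact el_c5 (σ := σ) t ▸ hone _ (hr _)
  · exact el_c3 (σ := σ) t ▸ hone _ (hr _)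
  · exact el_b2 (σ := σ) t ▸ hone _ (hr _)
  · exact el_b4 (σ := σ) t ▸ hone _ (hr _)

/-- splitting off one coordinate -/
theorem cover [Fintype K] (hinv : F42.Inv2 σ) {i : ℕ} (hi : i < 12) {L : List ℕ}
    (hc : blockChk (rt i) (rt' i) L = true) (hx : ∀ s ∈ ext i, s ∈ L) {y : GL chevF4.Idx K}
    (hy : y ∈ UL K g₄ (rt i :: rt' i :: L)) (hf : y ∈ (F42.tw σ).fix) :
    ∃ t, Head (rt i) (rt' i) L t y ∧ (mv σ i t)⁻¹ * y ∈ UL K g₄ L := by
  obtain ⟨-, -, -, -, -, -, -, ho, -, -⟩ := blk hc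
  obtain ⟨t, v, hv, rfl⟩ := exists_head stdF4 ho hy
  refine ⟨t, ⟨v, hv, rfl⟩, ?_⟩
  obtain ⟨w, hw, e⟩ := head_mv (σ := σ) hi hc hx t
  refine fix_drop hc ?_ (mul_mem (inv_mem (mv_fix hinv i t)) hf)
  rw [e, show (xG g₄ (rt i) t * w)⁻¹ * (xG g₄ (rt i) t * v) = w⁻¹ * v by group]
  exact mul_mem (inv_mem hw) hv

/-- two fixed elements with the same leading coefficient differ below -/
theorem same_head {r r' : ℕ} {L : List ℕ} (hc : blockChk r r' L = true) {t : K} {x y : GL chevF4.Idx K}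
    (hx : Head r r' L t x) (hy : Head r r' L t y) (hxf : x ∈ (F42.tw σ).fix) (hyf : y ∈ (F42.tw σ).fix) :
    x⁻¹ * y ∈ UL K g₄ L := by
  refine fix_drop hc ?_ (mul_mem (inv_mem hxf) hyf)
  obtain ⟨v, hv, rfl⟩ := hx
  obtain ⟨w, hw, rfl⟩ := hy
  rw [show (xG g₄ r t * v)⁻¹ * (xG g₄ r t * w) = v⁻¹ * w by group]
  exact mul_mem (inv_mem hv) hw

end CfsgLib.Chev.F42Mult
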