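import Cfsg.Agent.Lib.Chev.F42Mult.Weights
import Cfsg.Agent.Lib.Schur.ChainSplit
import Cfsg.Agent.Lib.KnownA.SL2Multiplier

/-!
The central series of the fixed unipotent part of twisted F4 and the action of the torus on its factors.
-/

set_option autoImplicit false
set_option maxRecDepth 100000

namespace CfsgLib.Chev.F42Mult

open Cfsg.Lie Matrix CfsgLib.Chev CfsgLib.Chev.OrdList CfsgLib.Schur.ChainSplit
open CfsgLib.Chev.F42Aut (tc hT hT_mem)
open scoped commutatorElement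

universe w

variable {K : Type*} [Field K] [CharP K 2] {σ : K →+* K}

local notation "g₄" => stdF4.good

/-- the central series -/
noncomputable def V (σ : K →+* K) (i : ℕ) : Subgroup ↥(F42.tw σ).fix :=
  (UL K g₄ (ordF.drop (2 * i))).subgroupOf (F42.tw σ).fix

/-- the coordinate groups -/
noncomputable def Grp (σ : K →+* K) (i : ℕ) : Subgroup ↥(F42.tw σ).fix :=
  (UL K g₄ (grp i)).subgroupOf (F42.tw σ).fix

/-- the fixed torus -/
noncomputable def TT (σ : K →+* K) : Subgroup ↥(F42.tw σ).fix :=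
  (chevF4.diagonalSubgroup K).subgroupOf (F42.tw σ).fix

theorem tq_mem (hi : F42.Inv2 σ) (x y : Kˣ) : tq hi x y ∈ TT σ := by
  show hT σ x y ∈ chevF4.diagonalSubgroup K
  rw [diagonalSubgroup_eq g₄]
  exact ⟨_, rfl⟩

theorem TT_comm : ∀ a ∈ TT σ, ∀ b ∈ TT σ, a * b = b * a := fun a ha b hb => by
  have ha' : (a : GL chevF4.Idx K) ∈ chevF4.diagonalSubgroup K := ha
  have hb' : (b : GL chevF4.Idx K) ∈ chevF4.diagonalSubgroup K := hb
  rw [diagonalSubgroup_eq g₄] at ha' hb'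
  obtain ⟨c, hc⟩ := ha'
  obtain ⟨d, hd⟩ := hb'
  refine Subtype.ext ?_
  push_cast
  rw [← hc, ← hd, ← map_mul, ← map_mul, mul_comm]

omit [CharP K 2] in
theorem tor_UL {L : List ℕ} (hL : ∀ r ∈ L, r < chevF4.nroots) (x y : Kˣ) {z : GL chevF4.Idx K}
    (hz : z ∈ UL K g₄ L) : hT σ x y * z * (hT σ x y)⁻¹ ∈ UL K g₄ L :=
  conj_UL (fun r hr t => by rw [hT_xG (hL r hr)]; exact xG_mem_UL g₄ hr _) hz

omit [CharP K 2] in
theorem tor_fix {L : List ℕ} (hL : ∀ r ∈ L, r < chevF4.nroots) {x y : Kˣ} (hw : ∀ r ∈ L, wt σ r x y = 1)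
    {z : GL chevF4.Idx K} (hz : z ∈ UL K g₄ L) : hT σ x y * z = z * hT σ x y := by
  induction hz using Subgroup.closure_induction with
  | one => rw [mul_one, one_mul]
  | mul a b _ _ ha hb => rw [← mul_assoc, ha, mul_assoc, hb, mul_assoc]
  | inv a _ ha => exact Commute.inv_right ha
  | mem a ha =>
    obtain ⟨r, t, hr, rfl⟩ := ha
    have h := hT_xG (σ := σ) (hL r hr) x y t
    rw [hw r hr, Units.val_one, one_mul, mul_inv_eq_iff_eq_mul] at h
    exact h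

omit [CharP K 2] in
theorem chk_lt {r r' : ℕ} {L : List ℕ} (hc : blockChk r r' L = true) :
    ∀ s ∈ r :: r' :: L, s < chevF4.nroots := by
  obtain ⟨-, -, pr, pr', -, -, hL, -⟩ := blk hc
  intro s hs
  rcases List.mem_cons.1 hs with rfl | hs
  · exact pr.1
  rcases List.mem_cons.1 hs with rfl | hs
  exacts [pr'.1, (hL s hs).1.1]

omit [CharP K 2] in
theorem Head.conj {r r' : ℕ} {L : List ℕ} (hc : blockChk r r' L = true) (x y : Kˣ) {t : K}
    {z : GL chevF4.Idx K} (hz : Head r r' L t z) :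
    Head r r' L ((wt σ r x y : K) * t) (hT σ x y * z * (hT σ x y)⁻¹) := by
  obtain ⟨v, hv, rfl⟩ := hz
  refine ⟨hT σ x y * v * (hT σ x y)⁻¹,
    tor_UL (fun s hs => chk_lt hc s (List.mem_cons_of_mem _ hs)) x y hv, ?_⟩
  rw [← hT_xG (σ := σ) (chk_lt hc r List.mem_cons_self) x y t]
  group

omit [CharP K 2] in
theorem Head.inv {r r' : ℕ} {L : List ℕ} (hc : blockChk r r' L = true) {t : K}
    {z : GL chevF4.Idx K} (hz : Head r r' L t z) : Head r r' L (-t) z⁻¹ := by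
  obtain ⟨v, hv, rfl⟩ := hz
  rw [_root_.mul_inv_rev, xG_inv, show v⁻¹ * xG g₄ r (-t) = v⁻¹ * (xG g₄ r (-t) * 1) by rw [mul_one]]
  exact head_mk hc (inv_mem hv) (one_mem _)

omit [CharP K 2] in
theorem Head.of_low {r r' : ℕ} {L : List ℕ} {z : GL chevF4.Idx K} (hz : z ∈ UL K g₄ L) : Head r r' L 0 z :=
  ⟨z, UL_mono g₄ (fun _ hs => List.mem_cons_of_mem _ hs) hz, by rw [xG_zero, one_mul]⟩

/-- the head of a commutator with a torus element -/
theorem head_twist {r r' : ℕ} {L : List ℕ} (hc : blockChk r r' L = true) (x y : Kˣ) {t : K}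
    {z : GL chevF4.Idx K} (hz : Head r r' L t z) :
    Head r r' L ((wt σ r x y : K) * t + -t) ⁅hT σ x y, z⁆ := by
  rw [commutatorElement_def]
  exact Head.mul hc (hz.conj hc x y) (hz.inv hc)

theorem low_of_free {r r' : ℕ} {L : List ℕ} (hc : blockChk r r' L = true) {x y : Kˣ}
    (hw : wt σ r x y ≠ 1) {z : GL chevF4.Idx K} (hz : z ∈ UL K g₄ (r :: r' :: L))
    (hf : z ∈ (F42.tw σ).fix) (h : ⁅hT σ x y, z⁆ ∈ UL K g₄ L) : z ∈ UL K g₄ L := by
  obtain ⟨-, -, -, -, -, -, -, ho, -, -⟩ := blk hc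
  obtain ⟨t, v, hv, e⟩ := exists_head stdF4 ho hz
  have h1 := Head.unique hc (head_twist hc x y ⟨v, hv, e⟩) (Head.of_low h)
  rw [← sub_eq_add_neg, ← sub_one_mul, mul_eq_zero, sub_eq_zero, Units.val_eq_one] at h1
  rw [h1.resolve_left hw, xG_zero, one_mul] at e
  exact fix_drop hc (e ▸ hv) hf

theorem low_of_triv {r r' : ℕ} {L : List ℕ} (hc : blockChk r r' L = true) (hi : F42.Inv2 σ) {x y : Kˣ}
    (hw : wt σ r x y = 1) {z : GL chevF4.Idx K} (hz : z ∈ UL K g₄ (r :: r' :: L))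
    (hf : z ∈ (F42.tw σ).fix) : ⁅hT σ x y, z⁆ ∈ UL K g₄ L := by
  obtain ⟨-, -, -, -, -, -, -, ho, -, -⟩ := blk hc
  obtain ⟨t, v, hv, e⟩ := exists_head stdF4 ho hz
  obtain ⟨v', hv', e'⟩ := head_twist (σ := σ) hc x y ⟨v, hv, e⟩
  rw [hw, Units.val_one, one_mul, add_neg_cancel, xG_zero, one_mul] at e'
  refine fix_drop (σ := σ) hc (e' ▸ hv') ?_
  rw [commutatorElement_def]
  exact mul_mem (mul_mem (mul_mem (hT_mem hi x y) hf) (inv_mem (hT_mem hi x y))) (inv_mem hf)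

theorem V_zero : V σ 0 = (chevF4.posUnipotent K).subgroupOf (F42.tw σ).fix := by
  rw [V, ← UL_ordF]; rfl

theorem V_last : V σ 12 = ⊥ := by
  rw [eq_bot_iff]
  intro y hy
  have h : (y : GL chevF4.Idx K) ∈ UL K g₄ (ordF.drop 24) := hy
  rw [show ordF.drop 24 = [] from rfl, UL_nil, Subgroup.mem_bot] at h
  exact Subtype.ext h

theorem V_anti {i : ℕ} (hi : i < 12) : V σ (i + 1) ≤ V σ i := fun y hy => by
  refine UL_mono g₄ (fun r hr => ?_) hy
  rw [(series_chk i hi).2.1]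
  exact List.mem_cons_of_mem _ (List.mem_cons_of_mem _ hr)

theorem V_comm {i : ℕ} (hi : i < 12) : ∀ x ∈ V σ 0, ∀ y ∈ V σ i, ⁅x, y⁆ ∈ V σ (i + 1) := fun x hx y hy => by
  show ((⁅x, y⁆ : ↥(F42.tw σ).fix) : GL chevF4.Idx K) ∈ UL K g₄ _
  rw [show ((⁅x, y⁆ : ↥(F42.tw σ).fix) : GL chevF4.Idx K) = ⁅(x : GL chevF4.Idx K), (y : GL chevF4.Idx K)⁆ from
    map_commutatorElement (F42.tw σ).fix.subtype x y]
  exact comm2 (comm_series i hi) (show (x : GL chevF4.Idx K) ∈ UL K g₄ ordF from hx) hy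

theorem ord_lt : ∀ r ∈ ordF, r < chevF4.nroots := by decide +kernel

theorem V_norm (i : ℕ) : ∀ t ∈ TT σ, ∀ v ∈ V σ i, t * v * t⁻¹ ∈ V σ i := fun t ht v hv => by
  have ht' : (t : GL chevF4.Idx K) ∈ chevF4.diagonalSubgroup K := ht
  rw [diagonalSubgroup_eq g₄] at ht'
  obtain ⟨c, hc⟩ := ht'
  show ((t * v * t⁻¹ : ↥(F42.tw σ).fix) : GL chevF4.Idx K) ∈ UL K g₄ _
  push_cast
  refine conj_UL (fun r hr u => ?_) hv
  rw [← hc, tor_conj_xG g₄ c (ord_lt r (List.mem_of_mem_drop hr))]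
  exact xG_mem_UL g₄ hr _

theorem comm_coe (x y : Kˣ) (hi : F42.Inv2 σ) (v : ↥(F42.tw σ).fix) :
    ((⁅tq hi x y, v⁆ : ↥(F42.tw σ).fix) : GL chevF4.Idx K) = ⁅hT σ x y, (v : GL chevF4.Idx K)⁆ :=
  map_commutatorElement (F42.tw σ).fix.subtype _ _

theorem mem_series {i : ℕ} (h12 : i < 12) {v : ↥(F42.tw σ).fix} (hv : v ∈ V σ i) :
    (v : GL chevF4.Idx K) ∈ UL K g₄ (rt i :: rt' i :: ordF.drop (2 * (i + 1))) := by
  rw [← (series_chk i h12).2.1]; exact hv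

theorem V_free (hi : F42.Inv2 σ) {i : ℕ} (h12 : i < 12) {x y : Kˣ} (hw : wt σ (rt i) x y ≠ 1) :
    Free (V σ i) (V σ (i + 1)) (tq hi x y) := by
  intro v hv h
  have h' : ((⁅tq hi x y, v⁆ : ↥(F42.tw σ).fix) : GL chevF4.Idx K) ∈ UL K g₄ _ := h
  rw [comm_coe] at h'
  exact low_of_free (series_chk i h12).1 hw (mem_series h12 hv) v.2 h'

theorem V_triv (hi : F42.Inv2 σ) {i : ℕ} (h12 : i < 12) {x y : Kˣ} (hw : wt σ (rt i) x y = 1) :
    Triv (V σ i) (V σ (i + 1)) (tq hi x y) := by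
  intro v hv
  show ((⁅tq hi x y, v⁆ : ↥(F42.tw σ).fix) : GL chevF4.Idx K) ∈ UL K g₄ _
  rw [comm_coe]
  exact low_of_triv (series_chk i h12).1 hi hw (mem_series h12 hv) v.2

variable [Fintype K]

/-- a coordinate element in the fixed group -/
noncomputable def gm (hi : F42.Inv2 σ) (i : ℕ) (t : K) : ↥(F42.tw σ).fix := ⟨mv σ i t, mv_fix hi i t⟩

/-- a companion coordinate with an independent character -/
def mate (i : ℕ) : ℕ := if i = 2 then 0 else 2

theorem indep_mate : ∀ i < 12, indep (rt i) (rt (mate i)) = true := by decide +kernel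

theorem wt_surj (hi : F42.Inv2 σ) {i : ℕ} (h12 : i < 12) (a : Kˣ) : ∃ x y, wt σ (rt i) x y = a := by
  obtain ⟨x, y, e, -⟩ := exists_pair hi (indep_mate i h12) a 1
  exact ⟨x, y, e⟩

theorem no_self_form (hi : F42.Inv2 σ) (h4 : 4 < Fintype.card K) {i : ℕ} (h12 : i < 12) :
    NoForm.{w} (V σ) (TT σ) i i := by
  intro A _ β hl hr hl0 hr0 hT' a ha b hb
  have hc := (series_chk i h12).1
  have hx : ∀ s ∈ ext i, s ∈ ordF.drop (2 * (i + 1)) := (series_chk i h12).2.2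
  have hm : ∀ t, gm hi i t ∈ V σ i := fun t => by
    show mv σ i t ∈ UL K g₄ _
    rw [(series_chk i h12).2.1]
    exact (head_mv h12 hc hx t).mem
  have hsame : ∀ (v w : ↥(F42.tw σ).fix) (t : K),
      Head (rt i) (rt' i) (ordF.drop (2 * (i + 1))) t (v : GL chevF4.Idx K) →
      Head (rt i) (rt' i) (ordF.drop (2 * (i + 1))) t (w : GL chevF4.Idx K) → v⁻¹ * w ∈ V σ (i + 1) :=
    fun v w t hv hw => same_head hc hv hw v.2 w.2
  have eqv : ∀ v ∈ V σ i, ∀ w, v⁻¹ * w ∈ V σ (i + 1) → ∀ z ∈ V σ i, β v z = β w z ∧ β z v = β z w := by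
    intro v hv w hw z hz
    have e : w = v * (v⁻¹ * w) := (mul_inv_cancel_left _ _).symm
    constructor
    · rw [e, hl v hv _ (V_anti h12 hw) z hz, hl0 _ hw z hz, mul_one]
    · rw [e, hr z hz v hv _ (V_anti h12 hw), hr0 z hz _ hw, mul_one]
  have hadd : ∀ s t, (gm hi i (s + t))⁻¹ * (gm hi i s * gm hi i t) ∈ V σ (i + 1) := fun s t =>
    hsame _ _ _ (head_mv h12 hc hx _) (Head.mul hc (head_mv h12 hc hx s) (head_mv h12 hc hx t))
  let B : K → K → Additive A := fun s t => Additive.ofMul (β (gm hi i s) (gm hi i t))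
  have hB : ∀ s t, B s t = 0 := by
    refine CfsgLib.KnownA.SLTwo.eq_zero_of_invariant_form h4 (fun h => absurd CharTwo.two_eq_zero h) B
      (fun s s' t => ?_) (fun s t t' => ?_) (fun r hr0' s t => ?_)
    · show Additive.ofMul _ = Additive.ofMul _ + Additive.ofMul _
      rw [(eqv _ (hm _) _ (hadd s s') _ (hm t)).1, hl _ (hm s) _ (hm s') _ (hm t), ofMul_mul]
    · show Additive.ofMul _ = Additive.ofMul _ + Additive.ofMul _
      rw [(eqv _ (hm _) _ (hadd t t') _ (hm s)).2, hr _ (hm s) _ (hm t) _ (hm t'), ofMul_mul]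
    · obtain ⟨x, y, e⟩ := wt_surj hi h12 (Units.mk0 (r ^ 2) (pow_ne_zero _ hr0'))
      have hcj : ∀ u, (gm hi i (r ^ 2 * u))⁻¹ * (tq hi x y * gm hi i u * (tq hi x y)⁻¹) ∈ V σ (i + 1) := fun u => by
        refine hsame _ _ _ (head_mv h12 hc hx _) ?_
        have h1 := Head.conj (σ := σ) hc x y (head_mv (σ := σ) h12 hc hx u)
        rw [e, Units.val_mk0] at h1
        exact h1
      have hcm : ∀ u, tq hi x y * gm hi i u * (tq hi x y)⁻¹ ∈ V σ i := fun u =>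
        V_norm i _ (tq_mem hi x y) _ (hm u)
      show Additive.ofMul _ = Additive.ofMul _
      rw [(eqv _ (hm _) _ (hcj s) _ (hm _)).1, (eqv _ (hm _) _ (hcj t) _ (hcm s)).2,
        hT' _ (tq_mem hi x y) _ (hm s) _ (hm t)]
  obtain ⟨s, -, hs⟩ := cover hi h12 hc hx (mem_series h12 ha) a.2
  obtain ⟨t, -, ht⟩ := cover hi h12 hc hx (mem_series h12 hb) b.2
  rw [← (eqv _ (hm s) a hs b hb).1, ← (eqv _ (hm t) b ht _ (hm s)).2]
  exact congrArg Additive.toMul (hB s t)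

end CfsgLib.Chev.F42Mult
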