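import Cfsg.Agent.Lib.Chev.F42Mult.Levi
import Cfsg.Agent.Lib.KnownA.Suzuki.Torus
import Cfsg.Agent.Lib.Schur.LiftedRankOne
import Cfsg.Agent.Lib.Chev.TwOut.LiftDatum

/-!
The subgroup of the orbit of four is a copy of the Suzuki group.
-/

set_option autoImplicit false
set_option maxRecDepth 100000

namespace CfsgLib.Chev.F42Mult

open Cfsg.Lie Matrix CfsgLib.Chev CfsgLib.Chev.OrdList CfsgLib.Chev.TwOut
open CfsgLib.Chev.F42Aut (tc hT hT_mem pP pW pY pW_mem pY_mem n1 n1_mem n1_eq pY_eq chi_tc exists_hT pW_zero)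
open CfsgLib.KnownA.Suzuki (TitsField su sh sw uGL wGL uGL_coe uGL_mem wGL_mem uMat wMat mat mat_mul mat_one
  mat_ext borel sw_notMem_borel su_mem_borel exists_borel uni)
open CfsgLib.KnownB.ChevAutThm (pos_inf_neg)

variable {K : Type*} [Field K] [CharP K 2] [Fintype K] {σ : K →+* K}

local notation "g₄" => stdF4.good

theorem carts_cl : ∀ k : Fin 4, auxF4.cart k.val 33 = [2, -1, 0, 0].getD k.val 0 ∧
    auxF4.cart k.val 37 = [0, 1, 0, -1].getD k.val 0 := by decide +kernel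

omit [Fintype K] in
/-- the first and last weights determine the first coordinate -/
theorem chi_ends (hi : F42.Inv2 σ) {a b : Kˣ}
    (h : (chi chevF4 auxF4 (tc σ a b) 33 : K) * (chi chevF4 auxF4 (tc σ a b) 37 : K) = 1) : a = 1 := by
  have c := carts_cl
  rw [chi_tc, chi_tc] at h
  rw [show auxF4.cart 0 33 = 2 from (c 0).1, show auxF4.cart 1 33 = -1 from (c 1).1,
    show auxF4.cart 2 33 = 0 from (c 2).1, show auxF4.cart 3 33 = 0 from (c 3).1,
    show auxF4.cart 0 37 = 0 from (c 0).2, show auxF4.cart 1 37 = 1 from (c 1).2,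
    show auxF4.cart 2 37 = 0 from (c 2).2, show auxF4.cart 3 37 = -1 from (c 3).2] at h
  simp only [zpow_zero, mul_one, one_mul, zpow_one, _root_.zpow_neg, zpow_ofNat] at h
  have hb : σ (b : K) ≠ 0 := (map_ne_zero σ).2 b.ne_zero
  have h1 : σ (a : K) ^ 2 = a := by
    field_simp at h
    linear_combination h
  have h2 : (a : K) = σ a := by
    have := congrArg σ h1
    rwa [map_pow, hi] at this
  rw [← h2, sq] at h1
  exact Units.ext (by simpa using (mul_eq_left₀ a.ne_zero).1 h1)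

/-- the orbit group -/
noncomputable def X1 (σ : K →+* K) : Subgroup ↥(F42.tw σ).fix := fX (F42.tw σ) 1

/-- the rank one subgroup of the orbit of four -/
noncomputable def L1 (σ : K →+* K) : Subgroup ↥(F42.tw σ).fix :=
  X1 σ ⊔ (X1 σ).map (MulAut.conj (gn1 σ)).toMonoidHom

variable (hi : F42.Inv2 σ)

theorem mem_X1 {y : ↥(F42.tw σ).fix} : y ∈ X1 σ ↔ ∃ t u, gW hi t u = y := by
  rw [X1, fX, Subgroup.mem_subgroupOf, (F42.class1 hi).2]
  exact exists_congr fun t => exists_congr fun u => ⟨fun h => Subtype.ext h, fun h => congrArg Subtype.val h⟩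

theorem gW_L1 (t u : K) : gW hi t u ∈ L1 σ := Subgroup.mem_sup_left ((mem_X1 hi).2 ⟨t, u, rfl⟩)

include hi in
theorem gn1_L1 : gn1 σ ∈ L1 σ := by
  have e : gn1 σ = gW hi 1 0 * (gn1 σ * gW hi 0 1 * (gn1 σ)⁻¹) * gW hi 1 1 := Subtype.ext (by
    show n1 σ = pW σ 1 0 * (n1 σ * pW σ 0 1 * (n1 σ)⁻¹) * pW σ 1 1
    rw [← pY_eq, ← n1_eq])
  rw [e]
  exact mul_mem (mul_mem (gW_L1 hi _ _)
    (Subgroup.mem_sup_right ⟨_, (mem_X1 hi).2 ⟨0, 1, rfl⟩, rfl⟩)) (gW_L1 hi _ _)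

/-- the elements acting on the block as elements of the Suzuki group -/
noncomputable def SzM (σ : K →+* K) (e : ℕ) : Subgroup ↥(F42.tw σ).fix :=
  (((Sz K e).comap rep).map stab.subtype).subgroupOf (F42.tw σ).fix

variable {e : ℕ} (H : TitsField K e) (he : ∀ x : K, x ^ e = σ x ^ 2)

include hi H he in
theorem gW_SzM (t u : K) : gW hi t u ∈ SzM σ e := by
  refine Subgroup.mem_subgroupOf.2 ⟨⟨pW σ t u, W_stab _⟩, ?_, rfl⟩
  show rep ⟨pW σ t u, _⟩ ∈ Sz K e
  rw [show rep ⟨pW σ t u, W_stab _⟩ = uGL H (σ t) (σ t * t + u) from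
    Units.ext (by rw [rep_val, uGL_coe]; exact bl_pW hi he t u)]
  exact uGL_mem H _ _

omit [Fintype K] in
theorem n1_stab : n1 σ ∈ (stab : Subgroup (GL chevF4.Idx K)) := by
  rw [n1_eq]
  exact mul_mem (mul_mem (W_stab _) (pY_stab _)) (W_stab _)

include H in
theorem gn1_SzM : gn1 σ ∈ SzM σ e := by
  refine Subgroup.mem_subgroupOf.2 ⟨⟨n1 σ, n1_stab⟩, ?_, rfl⟩
  show rep ⟨n1 σ, _⟩ ∈ Sz K e
  rw [show rep ⟨n1 σ, n1_stab⟩ = wGL H from Units.ext (by rw [rep_val]; exact bl_n1 (σ := σ))]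
  exact wGL_mem H

include hi H he in
theorem L1_le : L1 σ ≤ SzM σ e ⊓ Lev hi := by
  have hX : X1 σ ≤ SzM σ e ⊓ Lev hi := fun y hy => by
    obtain ⟨t, u, rfl⟩ := (mem_X1 hi).1 hy
    exact Subgroup.mem_inf.2 ⟨gW_SzM hi H he t u, gW_lev hi t u⟩
  refine sup_le hX ?_
  rintro _ ⟨y, hy, rfl⟩
  have hn : gn1 σ ∈ SzM σ e ⊓ Lev hi := Subgroup.mem_inf.2 ⟨gn1_SzM H, gn1_lev hi⟩
  exact mul_mem (mul_mem hn (hX hy)) (inv_mem hn)

include hi H he in
theorem mem_stab {y : ↥(F42.tw σ).fix} (hy : y ∈ L1 σ) :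
    ∃ h : (y : GL chevF4.Idx K) ∈ stab, rep ⟨y, h⟩ ∈ Sz K e := by
  obtain ⟨z, hz, ez⟩ := Subgroup.mem_subgroupOf.1 (Subgroup.mem_inf.1 (L1_le hi H he hy)).1
  have hzy : (z : GL chevF4.Idx K) = y := ez
  refine ⟨hzy ▸ z.2, ?_⟩
  rw [show (⟨(y : GL chevF4.Idx K), hzy ▸ z.2⟩ : ↥(stab : Subgroup (GL chevF4.Idx K))) = z from
    Subtype.ext hzy.symm]
  exact hz

/-- the homomorphism onto the Suzuki group -/
noncomputable def toSz : ↥(L1 σ) →* ↥(Sz K e) :=
  MonoidHom.mk' (fun y => ⟨rep ⟨_, (mem_stab hi H he y.2).fst⟩, (mem_stab hi H he y.2).snd⟩)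
    fun y z => Subtype.ext ((congrArg rep (Subtype.ext rfl)).trans
      (map_mul rep ⟨_, (mem_stab hi H he y.2).fst⟩ ⟨_, (mem_stab hi H he z.2).fst⟩))

theorem mat_toSz (y : ↥(L1 σ)) :
    mat (toSz hi H he y) = bl ((y : ↥(F42.tw σ).fix) : GL chevF4.Idx K) := rep_val _

theorem toSz_gW (t u : K) : toSz hi H he ⟨gW hi t u, gW_L1 hi t u⟩ = su H (σ t) (σ t * t + u) :=
  mat_ext ((mat_toSz hi H he _).trans (bl_pW hi he t u))

theorem toSz_gn1 : toSz hi H he ⟨gn1 σ, gn1_L1 hi⟩ = sw H :=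
  mat_ext ((mat_toSz hi H he _).trans (bl_n1 (σ := σ)))

theorem toSz_tor (y : ↥(L1 σ)) {a b : Kˣ} (h : ((y : ↥(F42.tw σ).fix) : GL chevF4.Idx K) = hT σ a b) :
    mat (toSz hi H he y) = Matrix.diagonal fun i => (chi chevF4 auxF4 (tc σ a b) (cl i) : K) := by
  rw [mat_toSz, h, hT, bl_tor]

theorem tor_borel {y : ↥(L1 σ)} (h : (y : ↥(F42.tw σ).fix) ∈ TT σ) : toSz hi H he y ∈ borel H := by
  obtain ⟨a, b, e1⟩ := exists_hT hi (y : ↥(F42.tw σ).fix).2 h
  rw [CfsgLib.KnownA.Suzuki.mem_borel_iff, toSz_tor hi H he y e1]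
  simp [Matrix.diagonal]

include hi H he in
/-- the torus of the rank one subgroup -/
theorem L1_tor {a b : Kˣ} {y : ↥(F42.tw σ).fix} (hy : y ∈ L1 σ)
    (h : (y : GL chevF4.Idx K) = hT σ a b) : a = 1 := by
  have hm := toSz_tor hi H he ⟨y, hy⟩ h
  have hb : toSz hi H he ⟨y, hy⟩ ∈ borel H := by
    rw [CfsgLib.KnownA.Suzuki.mem_borel_iff, hm]
    simp [Matrix.diagonal]
  obtain ⟨c, d, t, e1⟩ := hb
  rw [e1] at hm
  have h0 := congrFun (congrFun hm 0) 0
  have h3 := congrFun (congrFun hm 3) 3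
  simp [mat, su, sh, CfsgLib.KnownA.Suzuki.uGL, CfsgLib.KnownA.Suzuki.hGL, uMat,
    CfsgLib.KnownA.Suzuki.hMat, Matrix.mul_apply, Fin.sum_univ_four, cl] at h0 h3
  refine chi_ends hi (b := b) ?_
  rw [← h0, ← h3, mul_inv_cancel₀ (pow_ne_zero _ t.ne_zero)]

include hi H he in
theorem toSz_injective (h4 : 4 ≤ Fintype.card K) : Function.Injective (toSz hi H he) := by
  rw [injective_iff_map_eq_one]
  rintro ⟨y, hy⟩ h1
  rcases lev_cases hi h4 (Subgroup.mem_inf.1 (L1_le hi H he hy)).2 with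
    ⟨t, u, h, hh, rfl⟩ | ⟨t, u, t', u', h, hh, rfl⟩
  · have hhL : h ∈ L1 σ := (Subgroup.mul_mem_cancel_left _ (gW_L1 hi t u)).1 hy
    obtain ⟨a, b, eh⟩ := exists_hT hi h.2 hh
    have e1 : toSz hi H he ⟨gW hi t u, gW_L1 hi t u⟩ * toSz hi H he ⟨h, hhL⟩ = 1 := by
      rw [← map_mul]; exact h1
    have hm := congrArg mat e1
    rw [mat_mul, mat_one, toSz_gW, toSz_tor hi H he ⟨h, hhL⟩ eh] at hm
    set d := fun i => (chi chevF4 auxF4 (tc σ a b) (cl i) : K) with hd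
    have hdne : ∀ i, d i ≠ 0 := fun i => Units.ne_zero _
    have he1 : ∀ i j, uMat e (σ t) (σ t * t + u) i j * d j = (1 : Matrix (Fin 4) (Fin 4) K) i j := fun i j => by
      rw [← Matrix.mul_diagonal, ← hm]; rfl
    have ht : σ t = 0 := by simpa [uMat, hdne 0] using he1 1 0
    have ht0 : t = 0 := (map_eq_zero σ).1 ht
    have hu : u = 0 := by simpa [uMat, ht0, hdne 0] using he1 2 0
    have hdi : ∀ i, d i = 1 := fun i => by
      have := he1 i i
      fin_cases i <;> simpa [uMat] using this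
    have ha : a = 1 := L1_tor hi H he hhL eh
    have h37 := hdi 3
    simp only [hd, cl] at h37
    rw [show ((![33, 34, 35, 37] : Fin 4 → ℕ) 3) = 37 from rfl, chi_tc,
      show auxF4.cart 0 37 = 0 from (carts_cl 0).2, show auxF4.cart 1 37 = 1 from (carts_cl 1).2,
      show auxF4.cart 2 37 = 0 from (carts_cl 2).2, show auxF4.cart 3 37 = -1 from (carts_cl 3).2, ha] at h37
    have hb : b = 1 := Units.ext (σ.injective (by simpa using h37))
    refine Subtype.ext (Subtype.ext ?_)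
    show pW σ t u * (h : GL chevF4.Idx K) = 1
    rw [ht0, hu, pW_zero, eh, ha, hb, one_mul, hT]
    refine (congrArg _ (F42.ext_ix fun k => ?_)).trans (map_one _)
    have key : ∀ k : Fin 4, (![Units.map σ.toMonoidHom 1, Units.map σ.toMonoidHom 1, 1, 1] : Fin 4 → Kˣ) k = 1 := by
      intro k; fin_cases k <;> simp
    exact key k
  · exfalso
    have hhL : h ∈ L1 σ := (Subgroup.mul_mem_cancel_left _ (gW_L1 hi t u)).1
      ((Subgroup.mul_mem_cancel_right _ (gn1_L1 hi)).1 ((Subgroup.mul_mem_cancel_right _ (gW_L1 hi t' u')).1 hy))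
    have e1 : toSz hi H he ⟨gW hi t u, gW_L1 hi t u⟩ * toSz hi H he ⟨h, hhL⟩ *
        toSz hi H he ⟨gn1 σ, gn1_L1 hi⟩ * toSz hi H he ⟨gW hi t' u', gW_L1 hi t' u'⟩ = 1 := by
      rw [← map_mul, ← map_mul, ← map_mul]; exact h1
    rw [toSz_gW, toSz_gn1, toSz_gW] at e1
    apply sw_notMem_borel H
    have hmem : ∀ A B C D : ↥(Sz K e), A * B * C * D = 1 → A ∈ borel H → B ∈ borel H → D ∈ borel H →
        C ∈ borel H := fun A B C D hE hA hB hD => by
      rw [show C = (A * B)⁻¹ * (A * B * C * D) * D⁻¹ by group, hE, mul_one]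
      exact mul_mem (inv_mem (mul_mem hA hB)) (inv_mem hD)
    exact hmem _ _ _ _ e1 (su_mem_borel H _ _) (tor_borel hi H he hh) (su_mem_borel H _ _)

include hi H he in
theorem toSz_surjective (h4 : 4 ≤ Fintype.card K) : Function.Surjective (toSz hi H he) := by
  rw [← MonoidHom.range_eq_top]
  refine CfsgLib.KnownA.Suzuki.eq_top_of_uni_le H (by rwa [Nat.card_eq_fintype_card]) ?_
    ⟨_, toSz_gn1 hi H he⟩ (sw_notMem_borel H)
  rintro x ⟨a, b, rfl⟩
  obtain ⟨t, rfl⟩ := Finite.surjective_of_injective σ.injective a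
  exact ⟨_, (toSz_gW hi H he t (b + σ t * t)).trans (by
    congr 1
    linear_combination CharTwo.add_self_eq_zero (σ t * t))⟩

/-- the inverse map -/
noncomputable def phi1 (h4 : 4 ≤ Fintype.card K) : ↥(Sz K e) →* ↥(F42.tw σ).fix :=
  (L1 σ).subtype.comp (MulEquiv.ofBijective (toSz hi H he)
    ⟨toSz_injective hi H he h4, toSz_surjective hi H he h4⟩).symm.toMonoidHom

theorem phi1_injective (h4 : 4 ≤ Fintype.card K) : Function.Injective (phi1 hi H he h4) :=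
  Subtype.val_injective.comp (MulEquiv.injective _)

theorem phi1_range (h4 : 4 ≤ Fintype.card K) : (phi1 hi H he h4).range = L1 σ := by
  rw [phi1, MonoidHom.range_comp, MonoidHom.range_eq_top.2 (MulEquiv.surjective _), ← MonoidHom.range_eq_map,
    Subgroup.range_subtype]

include hi in
/-- the rank one condition on the orbit of four -/
theorem rankOne1 (h4 : 4 ≤ Fintype.card K) {u : ↥(F42.tw σ).fix} (hu : u ∈ X1 σ) (hne : u ≠ 1) :
    ∃ a ∈ X1 σ, ∃ h ∈ TT σ, ∃ b ∈ X1 σ, gn1 σ * u * (gn1 σ)⁻¹ = a * h * gn1 σ * b := by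
  have hu' := hu
  obtain ⟨t, v, rfl⟩ := (mem_X1 hi).1 hu
  rcases lev_cases hi h4 (mul_mem (mul_mem (gn1_lev hi) (gW_lev hi t v)) (inv_mem (gn1_lev hi))) with
    ⟨a, b, h, hh, e1⟩ | ⟨a, b, a', b', h, hh, e1⟩
  · exfalso
    apply hne
    have g := (stdF4.good)
    have hV : (gW hi t v : GL chevF4.Idx K) ∈ (F42.tw σ).V (foldF42.w 1) := hu'
    have hneg : n1 σ * (gW hi t v : GL chevF4.Idx K) * (n1 σ)⁻¹ ∈ chevF4.negUnipotent K :=
      conj_UP_le ((F42.tw σ).nJ_acts (j := 1) (by decide)) (fun r hr => hr.1.1)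
        (fun r t hr => xG_mem_negUnipotent g hr.2 t) (Subgroup.mem_inf.1 hV).1
    have hb : n1 σ * (gW hi t v : GL chevF4.Idx K) * (n1 σ)⁻¹ ∈ chevF4.borelSubgroup K := by
      rw [show n1 σ * (gW hi t v : GL chevF4.Idx K) * (n1 σ)⁻¹ = (gW hi a b : GL chevF4.Idx K) * h from
        congrArg Subtype.val e1]
      exact mul_mem (pos_le_borel ((F42.tw σ).V_le_pos _
        (show (gW hi a b : GL chevF4.Idx K) ∈ (F42.tw σ).V (foldF42.w 1) from (mem_X1 hi).2 ⟨a, b, rfl⟩)).1)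
        (diag_le_borel hh)
    have h1 := Subgroup.mem_bot.1 ((borel_inf_negUnipotent (F := K) stdF4).le (Subgroup.mem_inf.2 ⟨hb, hneg⟩))
    exact Subtype.ext (conj_eq_one_iff.1 h1)
  · exact ⟨_, (mem_X1 hi).2 ⟨a, b, rfl⟩, h, hh, _, (mem_X1 hi).2 ⟨a', b', rfl⟩, e1⟩

universe u v

/-- the Suzuki groups have no multiplier prime to two -/
theorem primeTo_Sz {F : Type u} [Field F] [Fintype F] {e m : ℕ} (H : TitsField F e)
    (hF : Fintype.card F = 2 ^ (2 * m + 1)) :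
    CfsgLib.Schur.RankTwo.PrimeTo.{v} 2 ↥(Sz F e) := by
  intro r hr hr2
  haveI := Fact.mk hr
  haveI : Finite (GL (Fin 4) F) := inferInstance
  obtain ⟨S⟩ : Nonempty (Sylow r ↥(Sz F e)) := inferInstance
  exact ⟨(S : Subgroup ↥(Sz F e)), S.not_dvd_index, fun Γ _ _ π hsurj hcen x hx hk =>
    CfsgLib.Schur.sylow_condition_of_cyclic π hcen
      (CfsgLib.KnownA.Suzuki.isCyclic_of_isPGroup H hF hr2 _ S.2) x hx⟩

end CfsgLib.Chev.F42Mult
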