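import Cfsg.Agent.Lib.Chev.F42Mult.Roots
import Cfsg.Agent.Lib.Chev.F42Aut.Elems

/-!
The characters of the fixed torus of twisted F4 on the positive roots.
-/

set_option autoImplicit false
set_option maxRecDepth 100000

namespace CfsgLib.Chev.F42Mult

open Cfsg.Lie Matrix CfsgLib.Chev
open CfsgLib.Chev.F42Aut (tc hT chi_tc hT_mem)

variable {K : Type*} [Field K] [CharP K 2] {σ : K →+* K}

/-- a power with exponent in the integers extended by the endomorphism -/
noncomputable def ev (σ : K →+* K) (x : Kˣ) (p : ℤ × ℤ) : Kˣ := x ^ p.1 * Units.map σ.toMonoidHom x ^ p.2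

/-- twice the product of two exponents -/
def star (p q : ℤ × ℤ) : ℤ × ℤ := (2 * (p.1 * q.1) + p.2 * q.2, 2 * (p.1 * q.2 + p.2 * q.1))

/-- exponents of a root at the first torus parameter -/
noncomputable def ex (r : ℕ) : ℤ × ℤ := (auxF4.cart 3 r, auxF4.cart 0 r)
/-- exponents of a root at the second torus parameter -/
noncomputable def ey (r : ℕ) : ℤ × ℤ := (auxF4.cart 2 r, auxF4.cart 1 r)

/-- the character of a root -/
noncomputable def wt (σ : K →+* K) (r : ℕ) (x y : Kˣ) : Kˣ := chi chevF4 auxF4 (tc σ x y) r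

omit [CharP K 2] in
theorem wt_eq (r : ℕ) (x y : Kˣ) : wt σ r x y = ev σ x (ex r) * ev σ y (ey r) := by
  refine Units.ext ?_
  rw [wt, chi_tc]
  simp only [ev, ex, ey, Units.val_mul, Units.val_zpow_eq_zpow_val, Units.coe_map]
  simp only [RingHom.toMonoidHom_eq_coe, MonoidHom.coe_coe]
  ring

omit [CharP K 2] in
theorem ev_mul (x y : Kˣ) (p : ℤ × ℤ) : ev σ (x * y) p = ev σ x p * ev σ y p := by
  simp only [ev, map_mul, mul_zpow]; rw [mul_mul_mul_comm]

omit [CharP K 2] in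
theorem ev_one (p : ℤ × ℤ) : ev σ 1 p = 1 := by simp [ev]

omit [CharP K 2] in
theorem wt_mul (r : ℕ) (x x' y y' : Kˣ) : wt σ r (x * x') (y * y') = wt σ r x y * wt σ r x' y' := by
  rw [wt_eq, wt_eq, wt_eq, ev_mul, ev_mul, mul_mul_mul_comm]

theorem sq_inj {a : Kˣ} (h : a ^ 2 = 1) : a = 1 := by
  refine Units.ext ?_
  have h1 : ((a : K) + 1) ^ 2 = 0 := by
    rw [CharTwo.add_sq, ← Units.val_pow_eq_pow_val, h, Units.val_one, one_pow, CharTwo.add_self_eq_zero]
  have h2 := pow_eq_zero_iff (two_ne_zero) |>.1 h1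
  rw [CharTwo.add_eq_zero] at h2
  simpa using h2

omit [CharP K 2] in
theorem ev_ev (hi : F42.Inv2 σ) (x : Kˣ) (p q : ℤ × ℤ) : ev σ (ev σ x p) q ^ 2 = ev σ x (star p q) := by
  have h2 : Units.map σ.toMonoidHom (Units.map σ.toMonoidHom x) ^ (2 : ℤ) = x :=
    Units.ext (by simpa using hi (x : K))
  have hd : x ^ (p.2 * q.2) = Units.map σ.toMonoidHom (Units.map σ.toMonoidHom x) ^ (2 * (p.2 * q.2)) := by
    rw [_root_.zpow_mul _ 2, h2]
  simp only [ev, star, map_mul, map_zpow, mul_zpow, ← _root_.zpow_mul, _root_.zpow_add, ← zpow_natCast,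
    Nat.cast_ofNat]
  rw [hd, show p.1 * q.1 * 2 = 2 * (p.1 * q.1) by ring, show p.2 * q.1 * 2 = 2 * (p.2 * q.1) by ring,
    show p.1 * q.2 * 2 = 2 * (p.1 * q.2) by ring, show p.2 * q.2 * 2 = 2 * (p.2 * q.2) by ring,
    show 2 * (p.1 * q.2 + p.2 * q.1) = 2 * (p.1 * q.2) + 2 * (p.2 * q.1) by ring, _root_.zpow_add]
  ac_rfl

theorem eq_one_of_odd [Fintype K] {x : Kˣ} {n : ℕ} (h : x ^ (2 ^ n : ℤ) = 1) : x = 1 := by
  induction n generalizing x with
  | zero => simpa using h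
  | succ n ih =>
    rw [pow_succ, _root_.zpow_mul, zpow_ofNat] at h
    exact ih (sq_inj h)

/-- the norm of an exponent is up to sign a power of two -/
def good (D : ℤ × ℤ) : Bool :=
  (List.range 10).any fun n => decide (2 * D.1 ^ 2 - D.2 ^ 2 = 2 ^ n ∨ 2 * D.1 ^ 2 - D.2 ^ 2 = -2 ^ n)

theorem ev_good [Fintype K] (hi : F42.Inv2 σ) {x : Kˣ} {D : ℤ × ℤ} (hD : good D = true)
    (h : ev σ x D = 1) : x = 1 := by
  have h1 := ev_ev hi x D (D.1, -D.2)
  rw [h, ev_one, one_pow, show star D (D.1, -D.2) = (2 * D.1 ^ 2 - D.2 ^ 2, 0) by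
    simp only [star, Prod.mk.injEq]; constructor <;> ring] at h1
  simp only [good, List.any_eq_true, decide_eq_true_eq] at hD
  obtain ⟨n, -, e | e⟩ := hD <;> rw [e] at h1 <;> simp only [ev, zpow_zero, mul_one] at h1
  · exact eq_one_of_odd h1.symm
  · rw [_root_.zpow_neg, eq_comm, inv_eq_one] at h1
    exact eq_one_of_odd h1

/-- two roots with independent characters -/
noncomputable def indep (r s : ℕ) : Bool :=
  good ((star (ex r) (ey s)).1 - (star (ex s) (ey r)).1, (star (ex r) (ey s)).2 - (star (ex s) (ey r)).2)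

omit [CharP K 2] in
theorem ev_sub (x : Kˣ) (p q : ℤ × ℤ) : ev σ x (p.1 - q.1, p.2 - q.2) = ev σ x p / ev σ x q := by
  simp only [ev, _root_.zpow_sub, div_eq_mul_inv, _root_.mul_inv_rev]
  ac_rfl

theorem indep_ker [Fintype K] (hi : F42.Inv2 σ) {r s : ℕ} (h : indep r s = true) {x y : Kˣ}
    (hr : wt σ r x y = 1) (hs : wt σ s x y = 1) : x = 1 ∧ y = 1 := by
  rw [wt_eq] at hr hs
  have key : ∀ q, ev σ x (star (ex r) q) * ev σ y (star (ey r) q) = 1 ∧
      ev σ x (star (ex s) q) * ev σ y (star (ey s) q) = 1 := fun q => by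
    constructor
    · rw [← ev_ev hi, ← ev_ev hi, ← mul_pow, ← ev_mul, hr, ev_one, one_pow]
    · rw [← ev_ev hi, ← ev_ev hi, ← mul_pow, ← ev_mul, hs, ev_one, one_pow]
  have hsym : ∀ p q, star p q = star q p := fun p q => by
    simp only [star, Prod.mk.injEq]; constructor <;> ring
  constructor
  · refine ev_good hi h ?_
    rw [ev_sub, div_eq_one, eq_inv_of_mul_eq_one_left (key (ey s)).1,
      eq_inv_of_mul_eq_one_left (key (ey r)).2, hsym (ey r) (ey s)]
  · refine ev_good hi h ?_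
    rw [ev_sub, div_eq_one, hsym (ex r) (ey s), hsym (ex s) (ey r),
      eq_inv_of_mul_eq_one_right (key (ex r)).2, eq_inv_of_mul_eq_one_right (key (ex s)).1,
      hsym (ex r) (ex s)]

theorem exists_pair [Fintype K] (hi : F42.Inv2 σ) {r s : ℕ} (h : indep r s = true) (a b : Kˣ) :
    ∃ x y : Kˣ, wt σ r x y = a ∧ wt σ s x y = b := by
  classical
  let f : Kˣ × Kˣ →* Kˣ × Kˣ :=
    MonoidHom.mk' (fun p => (wt σ r p.1 p.2, wt σ s p.1 p.2))
      fun p q => Prod.ext (wt_mul r p.1 q.1 p.2 q.2) (wt_mul s p.1 q.1 p.2 q.2)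
  have hinj : Function.Injective f := by
    rw [injective_iff_map_eq_one]
    intro p hp
    obtain ⟨e1, e2⟩ := indep_ker hi h (congrArg Prod.fst hp) (congrArg Prod.snd hp)
    exact Prod.ext e1 e2
  obtain ⟨p, hp⟩ := (Finite.injective_iff_surjective.1 hinj) (a, b)
  exact ⟨p.1, p.2, congrArg Prod.fst hp, congrArg Prod.snd hp⟩

/-- the character of `s` vanishes with that of `r` -/
noncomputable def dep (r s : ℕ) : Bool :=
  (([(0, 1), (1, 0), (1, 1), (1, 2), (2, 0), (0, 2), (2, 2), (2, 4), (-2, 4), (-1, 2), (1, -2), (-1, -1), (-1, -2)] : List (ℤ × ℤ)).any fun q =>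
    decide (star (ex r) q = (2 * (ex s).1, 2 * (ex s).2) ∧ star (ey r) q = (2 * (ey s).1, 2 * (ey s).2)))

theorem dep_ker [Fintype K] (hi : F42.Inv2 σ) {r s : ℕ} (h : dep r s = true) {x y : Kˣ}
    (hr : wt σ r x y = 1) : wt σ s x y = 1 := by
  simp only [dep, List.any_eq_true, decide_eq_true_eq] at h
  obtain ⟨q, -, e1, e2⟩ := h
  have h1 : ev σ (wt σ r x y) q ^ 2 = 1 := by rw [hr, ev_one, one_pow]
  rw [wt_eq, ev_mul, mul_pow, ev_ev hi, ev_ev hi, e1, e2] at h1
  refine sq_inj ?_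
  rw [wt_eq, ← h1]
  simp only [ev, two_mul, _root_.zpow_add, sq]
  ac_rfl

/-- a torus element of the fixed group -/
noncomputable def tq (hi : F42.Inv2 σ) (x y : Kˣ) : ↥(F42.tw σ).fix := ⟨hT σ x y, hT_mem hi x y⟩

omit [CharP K 2] in
theorem hT_xG {r : ℕ} (hr : r < chevF4.nroots) (x y : Kˣ) (t : K) :
    hT σ x y * xG stdF4.good r t * (hT σ x y)⁻¹ = xG stdF4.good r ((wt σ r x y : K) * t) :=
  tor_conj_xG stdF4.good _ hr t

end CfsgLib.Chev.F42Mult
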